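import Cfsg.Agent.GraphClass.ModelPSU

/-!
# The field with `q` elements inside the one with `q²`
-/

set_option autoImplicit false

namespace CfsgLib.GraphClass

open CfsgLib.RepBounds.Unit CfsgLib.AutPSU

theorem exists_base_embedding {F : Type*} [Field F] [Fintype F] (C : ConjField F) (F₀ : Type*) [Field F₀]
    [Fintype F₀] (hF₀ : Fintype.card F₀ = C.q) :
    ∃ e : F₀ →+* F, ∀ x, C.σ x = x ↔ x ∈ Set.range e := by
  obtain ⟨p, hpc⟩ := CharP.exists F
  obtain ⟨k, hp, hk⟩ := FiniteField.card F p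
  have : Fact p.Prime := ⟨hp⟩
  obtain ⟨j, -, hj⟩ : ∃ j ≤ (k : ℕ), C.q = p ^ j :=
    (Nat.dvd_prime_pow hp).mp (by rw [← hk, C.card]; exact dvd_pow_self C.q two_ne_zero)
  obtain ⟨e, he⟩ := CfsgLib.AutPSL.exists_embedding_fixed (p := p) (f := j * 2)
    (by rw [C.card, hj, ← pow_mul]) (barEquiv C) (orderOf_barEquiv C) two_pos (Dvd.intro_left _ rfl) F₀
    (by rw [hF₀, hj, Nat.mul_div_cancel _ two_pos])
  exact ⟨e, fun x => by rw [← he x, barEquiv_apply]⟩

end CfsgLib.GraphClass
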