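import Cfsg.Agent.GraphClass.TargetsTwo

/-!
# The classes of non-degenerate symmetric and skew matrices of size `n` and their similarity groups
-/

set_option autoImplicit false
set_option linter.unusedSectionVars false

namespace CfsgLib.GraphClass

open Matrix CfsgLib.Forms

variable {K : Type*} [Field K]
variable {ι ι' : Type} [Fintype ι] [DecidableEq ι] [Fintype ι'] [DecidableEq ι']

/-- A quadratic form and its symmetric matrix have the same similarities. -/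
theorem quadSim_eq_sim (h2 : (2 : K) ≠ 0) {M : Matrix ι ι K} (hM : Mᵀ = M) {Q : (ι → K) → K}
    (hQ : ∀ v, Q v = bil M v v) : Cfsg.Geo.quadSimilarityGroup Q = sim M := by
  ext h
  refine exists_congr fun c => ⟨fun hc x y => ?_, fun hc v => by rw [hQ, hQ]; exact hc v v⟩
  have e : ∀ a b : ι → K, bil M (a + b) (a + b) = bil M a a + bil M b b + 2 * bil M a b := fun a b => by
    have hab := bil_comm hM a b
    simp only [bil, Matrix.mulVec_add, add_dotProduct, dotProduct_add] at hab ⊢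
    linear_combination hab
  have h1 := hc (x + y)
  rw [hQ, hQ, Matrix.mulVec_add, e, e, ← hQ, ← hQ, ← hQ, ← hQ, hc, hc] at h1
  exact mul_left_cancel₀ h2 (by linear_combination h1)

section Odd

variable [Finite K]

theorem bil_plusM (m : ℕ) (h2 : (2 : K) ≠ 0) (v : Fin m ⊕ Fin m → K) :
    Cfsg.quadFormPlus m K v = bil (plusM K m) v v := by
  have h : bil (plusM K m) v v = (2⁻¹ : K) * (2 * Cfsg.quadFormPlus m K v) := by
    rw [plusM, bil_smul]
    congr 1
    rw [bil, Matrix.fromBlocks_mulVec]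
    simp only [Matrix.zero_mulVec, Matrix.one_mulVec, zero_add, add_zero, dotProduct, Fintype.sum_sum_type,
      Sum.elim_inl, Sum.elim_inr, Cfsg.quadFormPlus, Finset.mul_sum, Function.comp_apply,
      ← Finset.sum_add_distrib]
    exact Finset.sum_congr rfl fun i _ => by ring
  rw [h, ← mul_assoc, inv_mul_cancel₀ h2, one_mul]

theorem bil_oddM (m : ℕ) (h2 : (2 : K) ≠ 0) (v : Unit ⊕ (Fin m ⊕ Fin m) → K) :
    Cfsg.quadFormOdd m K v = bil (oddM K m) v v := by
  rw [bil, oddM, Matrix.fromBlocks_mulVec]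
  have h := bil_plusM m h2 (v ∘ Sum.inr)
  rw [bil] at h
  simp only [Matrix.zero_mulVec, Matrix.one_mulVec, zero_add, add_zero]
  rw [show v ⬝ᵥ Sum.elim (v ∘ Sum.inl) (plusM K m *ᵥ v ∘ Sum.inr) =
    (v ∘ Sum.inl) ⬝ᵥ (v ∘ Sum.inl) + (v ∘ Sum.inr) ⬝ᵥ (plusM K m *ᵥ v ∘ Sum.inr) by
      simp [dotProduct, Fintype.sum_sum_type], ← h]
  simp [Cfsg.quadFormOdd, Cfsg.quadFormPlus, dotProduct, sq]

theorem bil_minusM (m : ℕ) (h2 : (2 : K) ≠ 0) (α : K) (v : (Fin m ⊕ Fin m) ⊕ Fin 2 → K) :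
    Cfsg.quadFormMinus m K 0 (-α) v = bil (minusM m α) v v := by
  rw [bil, minusM, Matrix.fromBlocks_mulVec]
  have h := bil_plusM m h2 (v ∘ Sum.inl)
  rw [bil] at h
  simp only [Matrix.zero_mulVec, zero_add, add_zero]
  rw [show v ⬝ᵥ Sum.elim (plusM K m *ᵥ v ∘ Sum.inl) (diagonal ![1, -α] *ᵥ v ∘ Sum.inr) =
    (v ∘ Sum.inl) ⬝ᵥ (plusM K m *ᵥ v ∘ Sum.inl) + (v ∘ Sum.inr) ⬝ᵥ (diagonal ![1, -α] *ᵥ v ∘ Sum.inr) by
      simp [dotProduct, Fintype.sum_sum_type], ← h]
  simp [Cfsg.quadFormMinus, Cfsg.quadFormPlus, dotProduct, Fin.sum_univ_two, Matrix.mulVec_diagonal]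
  ring

theorem quadSim_plus (m : ℕ) (h2 : (2 : K) ≠ 0) :
    Cfsg.Geo.quadSimilarityGroup (Cfsg.quadFormPlus m K) = sim (plusM K m) :=
  quadSim_eq_sim h2 (plusM_transpose m) (bil_plusM m h2)

theorem quadSim_odd (m : ℕ) (h2 : (2 : K) ≠ 0) :
    Cfsg.Geo.quadSimilarityGroup (Cfsg.quadFormOdd m K) = sim (oddM K m) :=
  quadSim_eq_sim h2 (oddM_transpose m) (bil_oddM m h2)

theorem quadSim_minus (m : ℕ) (h2 : (2 : K) ≠ 0) (α : K) :
    Cfsg.Geo.quadSimilarityGroup (Cfsg.quadFormMinus m K 0 (-α)) = sim (minusM m α) :=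
  quadSim_eq_sim h2 (minusM_transpose m α) (bil_minusM m h2 α)

theorem anisotropic_of_not_isSquare {α : K} (hα : ¬ IsSquare α) :
    ∀ z₁ z₂ : K, z₁ ^ 2 + 0 * z₁ * z₂ + -α * z₂ ^ 2 = 0 → z₁ = 0 ∧ z₂ = 0 := by
  intro z₁ z₂ h
  by_cases hz : z₂ = 0
  · subst hz
    simpa using h
  · exact absurd ⟨z₁ / z₂, by field_simp; linear_combination -h⟩ hα

end Odd

theorem cong_bil_self {B : Matrix ι ι K} {B' : Matrix ι' ι' K} (h : Cong B B') (hB : ∀ x, bil B x x = 0)
    (x : ι' → K) : bil B' x x = 0 := by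
  obtain ⟨e, c, hc⟩ := h
  obtain ⟨y, rfl⟩ := e.surjective x
  rw [hc, hB, mul_zero]

/-- Congruence keeps the square class of the determinant in even size. -/
theorem cong_det_isSquare {B B' : Matrix ι ι K} (h : Cong B B') (he : Even (Fintype.card ι)) :
    IsSquare (B.det * B'.det) := by
  obtain ⟨P, c, hc⟩ := h.exists_gl
  have h1 := congrArg Matrix.det hc
  rw [Matrix.det_mul, Matrix.det_mul, Matrix.det_transpose, Matrix.det_smul] at h1
  obtain ⟨k, hk⟩ := he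
  rw [hk, pow_add] at h1
  refine ⟨(c : K) ^ (k : ℕ) * B.det * (P.1.det)⁻¹, ?_⟩
  have hP : P.1.det ≠ 0 := P.det.ne_zero
  field_simp
  linear_combination B.det * h1

variable {n : ℕ} [Finite K]

theorem skew_card_even {B : Matrix (Fin n) (Fin n) K} (h2 : (2 : K) ≠ 0) (hd : B.det ≠ 0) (hs : Bᵀ = -B) :
    Even n := by
  obtain ⟨m, hm, -⟩ := exists_equiv_sympForm hd (bil_self_of_skew h2 hs)
  exact ⟨m, by simpa [two_mul] using hm⟩

theorem charP_two_of (h2 : (2 : K) = 0) : CharP K 2 :=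
  CharTwo.of_one_ne_zero_of_two_eq_zero one_ne_zero h2

theorem IsForm.transpose_eq_two [CharP K 2] {B : Matrix ι ι K} (hB : IsForm B) : Bᵀ = B :=
  hB.symm.elim id fun h => h.trans (by ext i j; simp [CharTwo.neg_eq])

/-- Odd size: the forms are congruent, and the similarity group is `PGO`. -/
theorem odd_class {m : ℕ} (hnm : n = 2 * m + 1) {B : Matrix (Fin n) (Fin n) K} (hB : IsForm B) :
    (∀ B' : Matrix (Fin n) (Fin n) K, IsForm B' → Cong B B') ∧
      Nonempty (Cfsg.projQuot (sim B) ≃* Cfsg.PGO K (Cfsg.quadFormOdd m K)) := by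
  by_cases h2 : (2 : K) = 0
  · have := charP_two_of h2
    have key : ∀ {B : Matrix (Fin n) (Fin n) K}, IsForm B → Cong (oddTwo K m) B := fun hB =>
      cong_oddTwo hB.transpose_eq_two hB.det (by simpa using hnm)
    refine ⟨fun B' hB' => (key hB).symm.trans (key hB'), ?_⟩
    obtain ⟨e₁⟩ := (key hB).nonempty_projQuot
    obtain ⟨e₂⟩ := nonempty_sp_oddTwo (K := K) (m := m)
    obtain ⟨e₃⟩ := nonempty_sp_pgo (K := K) (m := m)
    exact ⟨e₁.symm.trans (e₂.symm.trans e₃)⟩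
  · have key : ∀ {B : Matrix (Fin n) (Fin n) K}, IsForm B → Cong B (oddM K m) := fun hB => by
      refine cong_oddM h2 (hB.symm.resolve_right fun hs => ?_) hB.det (by simpa using hnm)
      obtain ⟨k, hk⟩ := skew_card_even h2 hB.det hs
      omega
    refine ⟨fun B' hB' => (key hB).trans (key hB').symm, ?_⟩
    change Nonempty (_ ≃* Cfsg.projQuot (Cfsg.Geo.quadSimilarityGroup (Cfsg.quadFormOdd m K)))
    rw [quadSim_odd m h2]
    exact (key hB).nonempty_projQuot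

theorem isForm_submatrix {B : Matrix ι' ι' K} (hB : IsForm B) (e : ι ≃ ι') : IsForm (B.submatrix e e) :=
  ⟨by rw [Matrix.det_submatrix_equiv_self]; exact hB.det, hB.symm.imp
    (fun h => by rw [Matrix.transpose_submatrix, h]) (fun h => by rw [Matrix.transpose_submatrix, h]; rfl)⟩

theorem isForm_J (m : ℕ) : IsForm (Matrix.J (Fin m) K) :=
  ⟨(Matrix.isUnit_det_J (Fin m) K).ne_zero, Or.inr (Matrix.J_transpose (Fin m) K)⟩

/-- Even size in odd characteristic: three classes. -/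
theorem even_odd_classes (h2 : (2 : K) ≠ 0) {α : K} (hα : ¬ IsSquare α) {k : ℕ} (hnk : n = 2 * (k + 1)) :
    ∃ B₁ B₂ B₃ : Matrix (Fin n) (Fin n) K, IsForm B₁ ∧ IsForm B₂ ∧ IsForm B₃ ∧
      ¬ Cong B₁ B₂ ∧ ¬ Cong B₁ B₃ ∧ ¬ Cong B₂ B₃ ∧
      Cong B₁ (Matrix.J (Fin (k + 1)) K) ∧ Cong B₂ (plusM K (k + 1)) ∧ Cong B₃ (minusM k α) ∧
      ∀ B : Matrix (Fin n) (Fin n) K, IsForm B → Cong B₁ B ∨ Cong B₂ B ∨ Cong B₃ B := by
  have hα0 : α ≠ 0 := fun h => hα (h ▸ ⟨0, by simp⟩)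
  have hu : ∀ j : ℕ, ((-1 : K)) ^ j ≠ 0 := fun j => pow_ne_zero _ (neg_ne_zero.2 one_ne_zero)
  have hi : ∀ j : ℕ, ((2⁻¹ : K) ^ j) ^ 2 ≠ 0 := fun j => pow_ne_zero _ (pow_ne_zero _ (inv_ne_zero h2))
  let e₁ : Fin n ≃ Fin (k + 1) ⊕ Fin (k + 1) := (finCongr (by omega)).trans finSumFinEquiv.symm
  let e₃ : Fin n ≃ (Fin k ⊕ Fin k) ⊕ Fin 2 :=
    ((finCongr (show n = k + k + 2 by omega)).trans finSumFinEquiv.symm).trans
      (Equiv.sumCongr finSumFinEquiv.symm (Equiv.refl _))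
  have hP : IsForm (plusM K (k + 1)) := ⟨det_plusM_ne h2 _, Or.inl (plusM_transpose _)⟩
  have hM : IsForm (minusM k α) :=
    ⟨by rw [det_minusM]; exact mul_ne_zero (mul_ne_zero (hi k) (hu _)) hα0, Or.inl (minusM_transpose _ _)⟩
  have halt : ∀ x, bil ((Matrix.J (Fin (k + 1)) K).submatrix e₁ e₁) x x = 0 := fun x => by
    rw [bil_submatrix]; exact sympForm_self _
  refine ⟨_, _, _, isForm_submatrix (isForm_J (k + 1)) e₁, isForm_submatrix hP e₁, isForm_submatrix hM e₃,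
    fun h => ?_, fun h => ?_, fun h => ?_, cong_submatrix _ e₁, cong_submatrix _ e₁, cong_submatrix _ e₃,
    fun B hB => ?_⟩
  · have h1 := cong_bil_self (h.trans (cong_submatrix _ e₁)) halt (Sum.elim 1 (Pi.single 0 1))
    rw [← bil_plusM _ h2, Cfsg.quadFormPlus] at h1
    simp [Pi.single_apply] at h1
  · have h1 := cong_bil_self (h.trans (cong_submatrix _ e₃)) halt (Sum.elim 0 (Pi.single 0 1))
    rw [← bil_minusM _ h2, Cfsg.quadFormMinus] at h1
    simp at h1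
  · obtain ⟨r, hr⟩ := cong_det_isSquare h ⟨k + 1, by simp; omega⟩
    rw [Matrix.det_submatrix_equiv_self, Matrix.det_submatrix_equiv_self, det_plusM, det_minusM] at hr
    apply hα
    have hs : ((-1 : K) ^ (k + 1)) * (-1) ^ (k + 1) = 1 := by rw [← mul_pow]; simp
    refine ⟨r / ((2⁻¹ : K) ^ (k + 1) * (2⁻¹ : K) ^ k), ?_⟩
    have hne : (2⁻¹ : K) ^ (k + 1) * (2⁻¹ : K) ^ k ≠ 0 :=
      mul_ne_zero (pow_ne_zero _ (inv_ne_zero h2)) (pow_ne_zero _ (inv_ne_zero h2))
    rw [div_mul_div_comm, eq_div_iff (mul_ne_zero hne hne), ← hr]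
    linear_combination -(((2⁻¹ : K) ^ (k + 1) * (2⁻¹ : K) ^ k) ^ 2 * α) * hs
  · rcases hB.symm with hs | hs
    · refine Or.inr ((cong_plusM_or_minusM h2 hα hs hB.det (by simpa using hnk)).imp (fun h => ?_) fun h => ?_)
      · exact (cong_submatrix _ e₁).trans h.symm
      · exact (cong_submatrix _ e₃).trans h.symm
    · exact Or.inl ((cong_submatrix _ e₁).trans
        (cong_J hB.det (bil_self_of_skew h2 hs) (by simpa using hnk)).symm)

/-- Even size in characteristic two: two classes. -/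
theorem even_two_classes [CharP K 2] {m : ℕ} (hm : 1 ≤ m) (hnm : n = 2 * m) :
    ∃ B₁ B₃ : Matrix (Fin n) (Fin n) K, IsForm B₁ ∧ IsForm B₃ ∧ ¬ Cong B₁ B₃ ∧
      Cong B₁ (Matrix.J (Fin m) K) ∧ Cong B₃ (evenTwo K hm) ∧ ∀ B : Matrix (Fin n) (Fin n) K, IsForm B → Cong B₁ B ∨ Cong B₃ B := by
  let e₁ : Fin n ≃ Fin m ⊕ Fin m := (finCongr (by omega)).trans finSumFinEquiv.symm
  have hsymJ : (Matrix.J (Fin m) K)ᵀ = Matrix.J (Fin m) K := (isForm_J m).transpose_eq_two
  have hN : IsForm (evenTwo K hm) := by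
    refine ⟨fun h0 => ?_, Or.inl ?_⟩
    · obtain ⟨z, hz0, hz⟩ := Matrix.exists_vecMul_eq_zero_iff.2 h0
      apply hz0
      have hzN : ∀ y, bil (evenTwo K hm) z y = 0 := fun y => by
        rw [bil, Matrix.dotProduct_mulVec, hz, zero_dotProduct]
      have h1 := hzN (e0 K hm)
      rw [bil_evenTwo, sympForm_self, mul_zero, add_zero] at h1
      refine sympForm_sep _ fun y => ?_
      have h3 := hzN y
      rwa [bil_evenTwo, h1, zero_mul, add_zero] at h3
    · rw [evenTwo, Matrix.transpose_add, Matrix.transpose_vecMulVec, hsymJ]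
  have halt : ∀ x, bil ((Matrix.J (Fin m) K).submatrix e₁ e₁) x x = 0 := fun x => by
    rw [bil_submatrix]; exact sympForm_self _
  refine ⟨_, _, isForm_submatrix (isForm_J m) e₁, isForm_submatrix hN e₁, fun h => ?_,
    cong_submatrix _ e₁, cong_submatrix _ e₁, fun B hB => ?_⟩
  · have h1 := cong_bil_self (h.trans (cong_submatrix _ e₁)) halt (Pi.single (Sum.inr ⟨0, hm⟩) 1)
    rw [bil_evenTwo, sympForm_self, zero_add, symp_symm, sympForm_single_inr] at h1
    simp [e0, CharTwo.neg_eq] at h1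
  · by_cases ha : ∀ x, bil B x x = 0
    · exact Or.inl ((cong_submatrix _ e₁).trans (cong_J hB.det ha (by simpa using hnm)).symm)
    · push Not at ha
      obtain ⟨x, hx⟩ := ha
      exact Or.inr ((cong_submatrix _ e₁).trans
        (cong_evenTwo hB.transpose_eq_two hB.det hx hm (by simpa using hnm)).symm)

end CfsgLib.GraphClass
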