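import Cfsg.Prelude.Def_LieTypeDatum

/-!
# Congruence up to scalars and the similarity group of a matrix

`bil B x y = xᵀ B y`; two matrices are `Cong` when a linear equivalence carries one form to a
non-zero multiple of the other. Congruent matrices have isomorphic projective similarity groups.
-/

set_option autoImplicit false
set_option linter.unusedSectionVars false

namespace CfsgLib.GraphClass

open Matrix

variable {K : Type*} [Field K]
variable {ι ι' κ : Type} [Fintype ι] [DecidableEq ι] [Fintype ι'] [DecidableEq ι'] [Fintype κ] [DecidableEq κ]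

/-- The form `xᵀ B y`. -/
def bil (B : Matrix ι ι K) (x y : ι → K) : K := x ⬝ᵥ (B *ᵥ y)

/-- The similarity group of the form of `B`. -/
def sim (B : Matrix ι ι K) : Subgroup (GL ι K) := Cfsg.Geo.similarityGroup (bil B)

/-- Congruence up to a scalar, possibly between different index types. -/
def Cong (B : Matrix ι ι K) (B' : Matrix ι' ι' K) : Prop :=
  ∃ (e : (ι → K) ≃ₗ[K] (ι' → K)) (c : Kˣ), ∀ x y, bil B' (e x) (e y) = c * bil B x y

/-- Non-degenerate symmetric or skew-symmetric. -/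
structure IsForm (B : Matrix ι ι K) : Prop where
  det : B.det ≠ 0
  symm : Bᵀ = B ∨ Bᵀ = -B

theorem bil_ext {A B : Matrix ι ι K} (h : ∀ x y, bil A x y = bil B x y) : A = B := by
  ext i j
  simpa [bil] using h (Pi.single i 1) (Pi.single j 1)

theorem bil_congr (B : Matrix ι' ι' K) (P : Matrix ι' ι K) (x y : ι → K) :
    bil (Pᵀ * B * P) x y = bil B (P *ᵥ x) (P *ᵥ y) := by
  rw [bil, bil, ← Matrix.mulVec_mulVec, ← Matrix.mulVec_mulVec, Matrix.dotProduct_mulVec,
    Matrix.vecMul_transpose]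

theorem bil_smul (c : K) (B : Matrix ι ι K) (x y : ι → K) : bil (c • B) x y = c * bil B x y := by
  simp [bil, Matrix.smul_mulVec]

theorem bil_submatrix (B : Matrix ι' ι' K) (e : ι ≃ ι') (x y : ι → K) :
    bil (B.submatrix e e) x y = bil B (x ∘ e.symm) (y ∘ e.symm) := by
  simp only [bil, dotProduct, Matrix.mulVec, Matrix.submatrix_apply, Function.comp_apply]
  refine Fintype.sum_equiv e _ _ fun i => ?_
  rw [Equiv.symm_apply_apply]
  congr 1
  refine Fintype.sum_equiv e _ _ fun j => ?_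
  rw [Equiv.symm_apply_apply]

theorem Cong.refl (B : Matrix ι ι K) : Cong B B := ⟨LinearEquiv.refl K _, 1, fun x y => by simp⟩

theorem Cong.symm {B : Matrix ι ι K} {B' : Matrix ι' ι' K} (h : Cong B B') : Cong B' B := by
  obtain ⟨e, c, h⟩ := h
  refine ⟨e.symm, c⁻¹, fun x y => ?_⟩
  have h1 := h (e.symm x) (e.symm y)
  rw [e.apply_symm_apply, e.apply_symm_apply] at h1
  rw [h1, ← mul_assoc, Units.inv_mul, one_mul]

theorem Cong.trans {B : Matrix ι ι K} {B' : Matrix ι' ι' K} {B'' : Matrix κ κ K} (h : Cong B B')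
    (h' : Cong B' B'') : Cong B B'' := by
  obtain ⟨e, c, h⟩ := h
  obtain ⟨e', c', h'⟩ := h'
  exact ⟨e.trans e', c' * c, fun x y => by
    rw [LinearEquiv.trans_apply, LinearEquiv.trans_apply, h', h, Units.val_mul, mul_assoc]⟩

theorem cong_submatrix (B : Matrix ι' ι' K) (e : ι ≃ ι') : Cong (B.submatrix e e) B :=
  ⟨LinearEquiv.funCongrLeft K K e.symm, 1, fun x y => by
    rw [Units.val_one, one_mul, bil_submatrix]; rfl⟩

/-- Congruence from a matrix equation. -/
theorem cong_of_eq {B : Matrix ι ι K} {B' : Matrix ι' ι' K} (e : (ι → K) ≃ₗ[K] (ι' → K)) {c : K}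
    (hc : c ≠ 0) (h : ∀ x y, bil B' (e x) (e y) = c * bil B x y) : Cong B B' :=
  ⟨e, Units.mk0 c hc, h⟩

theorem Cong.exists_gl {B B' : Matrix ι ι K} (h : Cong B B') :
    ∃ (P : GL ι K) (c : Kˣ), P.1ᵀ * B' * P.1 = (c : K) • B := by
  obtain ⟨e, c, h⟩ := h
  refine ⟨⟨LinearMap.toMatrix' e.toLinearMap, LinearMap.toMatrix' e.symm.toLinearMap, ?_, ?_⟩, c,
    bil_ext fun x y => ?_⟩
  · rw [← LinearMap.toMatrix'_comp, LinearEquiv.comp_coe, LinearEquiv.symm_trans_self]; simp
  · rw [← LinearMap.toMatrix'_comp, LinearEquiv.comp_coe, LinearEquiv.self_trans_symm]; simp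
  · rw [bil_congr, bil_smul, LinearMap.toMatrix'_mulVec, LinearMap.toMatrix'_mulVec]
    exact h x y

theorem cong_of_gl {B B' : Matrix ι ι K} (P : GL ι K) (c : Kˣ) (h : P.1ᵀ * B' * P.1 = (c : K) • B) :
    Cong B B' := by
  refine ⟨Matrix.toLinearEquiv' P.1 P.invertible, c, fun x y => ?_⟩
  show bil B' (P.1 *ᵥ x) (P.1 *ᵥ y) = _
  rw [← bil_congr, h, bil_smul]

theorem mem_sim_iff {B : Matrix ι ι K} {h : GL ι K} :
    h ∈ sim B ↔ ∃ c : Kˣ, h.1ᵀ * B * h.1 = (c : K) • B := by
  refine exists_congr fun c => ⟨fun hc => bil_ext fun x y => ?_, fun hc x y => ?_⟩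
  · rw [bil_congr, bil_smul, hc]
  · rw [← bil_congr, hc, bil_smul]

/-- A linear equivalence moves `GL`. -/
noncomputable def eGL (e : (ι → K) ≃ₗ[K] (ι' → K)) : GL ι K ≃* GL ι' K :=
  Matrix.GeneralLinearGroup.toLin.trans
    ((LinearMap.GeneralLinearGroup.congrLinearEquiv e).trans Matrix.GeneralLinearGroup.toLin.symm)

theorem eGL_mulVec (e : (ι → K) ≃ₗ[K] (ι' → K)) (h : GL ι K) (x : ι → K) :
    (eGL e h).1 *ᵥ (e x) = e (h.1 *ᵥ x) := by
  have h1 : Matrix.GeneralLinearGroup.toLin (eGL e h) =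
      LinearMap.GeneralLinearGroup.congrLinearEquiv e (Matrix.GeneralLinearGroup.toLin h) :=
    Matrix.GeneralLinearGroup.toLin.apply_symm_apply _
  have h2 := congrArg (fun g : LinearMap.GeneralLinearGroup K (ι' → K) => g.1 (e x)) h1
  simpa [Matrix.GeneralLinearGroup.coe_toLin, Matrix.toLin'_apply] using h2

theorem eGL_scalar (e : (ι → K) ≃ₗ[K] (ι' → K)) (u : Kˣ) :
    eGL e (Matrix.GeneralLinearGroup.scalar ι u) = Matrix.GeneralLinearGroup.scalar ι' u := by
  apply Units.ext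
  refine Matrix.ext_iff_mulVec.2 fun y => ?_
  obtain ⟨x, rfl⟩ := e.surjective y
  rw [eGL_mulVec]
  have hs : ∀ {κ' : Type} [Fintype κ'] [DecidableEq κ'] (z : κ' → K),
      (Matrix.GeneralLinearGroup.scalar κ' u).1 *ᵥ z = (u : K) • z := fun z => by
    funext i; simp [Matrix.mulVec_diagonal]
  rw [hs, hs, map_smul]

/-- Transport of a projective quotient. -/
theorem nonempty_projQuot_congr (e : (ι → K) ≃ₗ[K] (ι' → K)) (H : Subgroup (GL ι K))
    (H' : Subgroup (GL ι' K)) (hH : ∀ h, h ∈ H ↔ eGL e h ∈ H') :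
    Nonempty (Cfsg.projQuot H ≃* Cfsg.projQuot H') := by
  let f : ↥H ≃* ↥H' :=
    { toFun := fun h => ⟨eGL e h.1, (hH _).1 h.2⟩
      invFun := fun h => ⟨(eGL e).symm h.1, (hH _).2 (by rw [MulEquiv.apply_symm_apply]; exact h.2)⟩
      left_inv := fun h => Subtype.ext ((eGL e).symm_apply_apply h.1)
      right_inv := fun h => Subtype.ext ((eGL e).apply_symm_apply h.1)
      map_mul' := fun a b => Subtype.ext (map_mul (eGL e) a.1 b.1) }
  refine ⟨QuotientGroup.congr _ _ f ?_⟩
  ext x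
  simp only [Subgroup.mem_map, Subgroup.mem_subgroupOf]
  constructor
  · rintro ⟨h, ⟨u, hu⟩, rfl⟩
    exact ⟨u, (eGL_scalar e u).symm.trans (congrArg (eGL e) hu)⟩
  · rintro ⟨u, hu⟩
    refine ⟨f.symm x, ⟨u, ?_⟩, f.apply_symm_apply x⟩
    apply (eGL e).injective
    exact ((eGL_scalar e u).trans hu).trans ((eGL e).apply_symm_apply x.1).symm

/-- Congruent matrices have isomorphic projective similarity groups. -/
theorem Cong.nonempty_projQuot {B : Matrix ι ι K} {B' : Matrix ι' ι' K} (h : Cong B B') :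
    Nonempty (Cfsg.projQuot (sim B) ≃* Cfsg.projQuot (sim B')) := by
  obtain ⟨e, c, hc⟩ := h
  refine nonempty_projQuot_congr e _ _ fun g => exists_congr fun k => ⟨fun hk x y => ?_, fun hk x y => ?_⟩
  · obtain ⟨x, rfl⟩ := e.surjective x
    obtain ⟨y, rfl⟩ := e.surjective y
    rw [eGL_mulVec, eGL_mulVec, hc, hc, hk]
    ring
  · have h1 := hk (e x) (e y)
    rw [eGL_mulVec, eGL_mulVec, hc, hc] at h1
    exact mul_left_cancel₀ c.ne_zero (by linear_combination h1)

theorem Cong.card_eq {B : Matrix ι ι K} {B' : Matrix ι' ι' K} (h : Cong B B') :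
    Fintype.card ι = Fintype.card ι' := by
  obtain ⟨e, -⟩ := h
  simpa using e.finrank_eq

end CfsgLib.GraphClass
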