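import Cfsg.Agent.GraphClass.Classes
import Cfsg.Agent.AutPSL.ClassSplit
import Cfsg.Agent.Forms4.OrthogonalOrders
import Cfsg.Agent.AutPSp.Similitude

/-!
# Determinants and multipliers of similarities, and the orders that tell the types apart
-/

set_option autoImplicit false
set_option linter.unusedSectionVars false

namespace CfsgLib.GraphClass

open Matrix CfsgLib.Forms

variable {K : Type*} [Field K]
variable {ι ι' : Type} [Fintype ι] [DecidableEq ι] [Fintype ι'] [DecidableEq ι']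

theorem eGL_val (e : (ι → K) ≃ₗ[K] (ι' → K)) (h : GL ι K) :
    (eGL e h).1 = LinearMap.toMatrix' ((e.toLinearMap.comp (Matrix.toLin' h.1)).comp e.symm.toLinearMap) := by
  refine Matrix.ext_iff_mulVec.2 fun x => ?_
  rw [LinearMap.toMatrix'_mulVec]
  conv_lhs => rw [← e.apply_symm_apply x, eGL_mulVec]
  rfl

theorem det_eGL (e : (ι → K) ≃ₗ[K] (ι' → K)) (h : GL ι K) : (eGL e h).1.det = h.1.det := by
  rw [eGL_val, LinearMap.det_toMatrix', LinearMap.comp_assoc, LinearMap.det_conj, LinearMap.det_toLin']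

theorem det_sq_of_sim {B : Matrix ι ι K} (hd : B.det ≠ 0) {h : Matrix ι ι K} {c : K}
    (hc : hᵀ * B * h = c • B) : h.det * h.det = c ^ Fintype.card ι := by
  have h1 := congrArg Matrix.det hc
  rw [Matrix.det_mul, Matrix.det_mul, Matrix.det_transpose, Matrix.det_smul] at h1
  exact mul_right_cancel₀ hd (by linear_combination h1)

/-- A similarity of an alternating form of size `2m` has determinant `c^m`. -/
theorem det_of_alt {B : Matrix ι ι K} (hd : B.det ≠ 0) (ha : ∀ x, bil B x x = 0) {m : ℕ}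
    (hm : Fintype.card ι = 2 * m) {h : GL ι K} {c : Kˣ} (hc : h.1ᵀ * B * h.1 = (c : K) • B) :
    h.1.det = (c : K) ^ m := by
  obtain ⟨m', hm', e, he⟩ := exists_equiv_sympForm hd ha
  obtain rfl : m' = m := by omega
  obtain ⟨M, hM⟩ : ∃ M : Matrix (Fin m' ⊕ Fin m') (Fin m' ⊕ Fin m') K,
      M = fromBlocks ((c : K)⁻¹ • 1) 0 0 1 := ⟨_, rfl⟩
  have hMf : ∀ x y, Cfsg.sympForm m' K (M *ᵥ x) (M *ᵥ y) = (c : K)⁻¹ * Cfsg.sympForm m' K x y := fun x y => by
    rw [hM, sympForm_eq_sum, sympForm_eq_sum, Matrix.fromBlocks_mulVec, Matrix.fromBlocks_mulVec,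
      Finset.mul_sum]
    refine Finset.sum_congr rfl fun i _ => ?_
    simp [Matrix.smul_mulVec]
    ring
  have hs : (eGL e h).1 * M ∈ Matrix.symplecticGroup (Fin m') K := mem_symplecticGroup_iff_form.2 fun x y => by
    rw [← Matrix.mulVec_mulVec, ← Matrix.mulVec_mulVec, ← e.apply_symm_apply (M *ᵥ x),
      ← e.apply_symm_apply (M *ᵥ y), eGL_mulVec, eGL_mulVec, he, ← bil_congr, hc, bil_smul, ← he,
      e.apply_symm_apply, e.apply_symm_apply, hMf, ← mul_assoc, mul_inv_cancel₀ c.ne_zero, one_mul]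
  have h1 := SymplecticGroup.det_eq_one hs
  rw [Matrix.det_mul, det_eGL, hM, det_fromBlocks_zero₁₂, Matrix.det_smul, Matrix.det_one,
    mul_one, mul_one, Fintype.card_fin, inv_pow] at h1
  field_simp at h1
  linear_combination h1

/-- In odd size the multiplier is a square and the determinant the power of its root. -/
theorem det_of_odd {B : Matrix ι ι K} (hd : B.det ≠ 0) {k : ℕ} (hk : Fintype.card ι = 2 * k + 1)
    {h : GL ι K} {c : Kˣ} (hc : h.1ᵀ * B * h.1 = (c : K) • B) :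
    ∃ d : K, d * d = c ∧ h.1.det = d ^ Fintype.card ι := by
  have h1 := det_sq_of_sim hd hc
  rw [hk] at h1 ⊢
  have hd' : (h.1.det / (c : K) ^ k) * (h.1.det / (c : K) ^ k) = c := by
    rw [div_mul_div_comm, h1, div_eq_iff (mul_ne_zero (pow_ne_zero _ c.ne_zero) (pow_ne_zero _ c.ne_zero))]
    ring
  refine ⟨_, hd', ?_⟩
  rw [pow_succ, pow_mul, pow_two, hd', mul_div_cancel₀ _ (pow_ne_zero _ c.ne_zero)]

theorem det_of_two [CharP K 2] [Finite K] {B : Matrix ι ι K} (hd : B.det ≠ 0) {h : GL ι K} {c : Kˣ}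
    (hc : h.1ᵀ * B * h.1 = (c : K) • B) : ∃ d : K, d * d = c ∧ h.1.det = d ^ Fintype.card ι := by
  obtain ⟨d, hdd⟩ := exists_sqrt (c : K)
  refine ⟨d, hdd, sq_inj' ?_⟩
  rw [det_sq_of_sim hd hc, ← hdd, mul_pow]

theorem det_of_even {B : Matrix ι ι K} (hd : B.det ≠ 0) {m : ℕ} (hm : Fintype.card ι = 2 * m)
    {h : GL ι K} {c : Kˣ} (hc : h.1ᵀ * B * h.1 = (c : K) • B) :
    h.1.det = (c : K) ^ m ∨ h.1.det = -((c : K) ^ m) :=
  mul_self_eq_mul_self_iff.1 (by rw [det_sq_of_sim hd hc, hm, two_mul, pow_add])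

/-- Every multiplier occurs for an alternating form. -/
theorem exists_sim_alt {B : Matrix ι ι K} (hd : B.det ≠ 0) (ha : ∀ x, bil B x x = 0) (c : Kˣ) :
    ∃ h : GL ι K, h.1ᵀ * B * h.1 = (c : K) • B := by
  obtain ⟨m, hm, e, he⟩ := exists_equiv_sympForm hd ha
  obtain ⟨m', hm', e', he'⟩ := exists_equiv_sympForm (B := (c : K) • B)
    (by rw [Matrix.det_smul]; exact mul_ne_zero (pow_ne_zero _ c.ne_zero) hd)
    (fun x => by rw [bil_smul, ha, mul_zero])
  obtain rfl : m' = m := by omega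
  refine ⟨Matrix.GeneralLinearGroup.toLin.symm
    (LinearMap.GeneralLinearGroup.ofLinearEquiv (e'.trans e.symm)), bil_ext fun x y => ?_⟩
  rw [bil_congr]
  have hh : ∀ x, (Matrix.GeneralLinearGroup.toLin.symm
      (LinearMap.GeneralLinearGroup.ofLinearEquiv (e'.trans e.symm))).1 *ᵥ x = e.symm (e' x) := fun x => by
    rw [← Matrix.mulVecLin_apply, ← Matrix.GeneralLinearGroup.coe_toLin, MulEquiv.apply_symm_apply]
    rfl
  rw [hh, hh, ← he, e.apply_symm_apply, e.apply_symm_apply, he']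

section Odd

variable [Finite K]

theorem exists_isometry_symm (h2 : (2 : K) ≠ 0) {B B' : Matrix ι ι K} (hs : Bᵀ = B) (hs' : B'ᵀ = B')
    (hd : B.det ≠ 0) (hd' : B'.det ≠ 0) (hsq : IsSquare (B.det * B'.det)) :
    ∃ g : (ι → K) ≃ₗ[K] (ι → K), ∀ x y, bil B' (g x) (g y) = bil B x y := by
  have hS : ∀ {M : Matrix ι ι K}, Mᵀ = M → (Matrix.toBilin' M).IsSymm :=
    fun hM => ⟨fun x y => by rw [bil_toBilin, bil_toBilin, bil_comm hM]⟩
  have hM : ∀ M : Matrix ι ι K, LinearMap.BilinForm.toMatrix (Pi.basisFun K ι) (Matrix.toBilin' M) = M :=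
    fun M => by rw [LinearMap.BilinForm.toMatrix_basisFun, LinearMap.BilinForm.toMatrix'_toBilin']
  obtain ⟨g, hg⟩ := exists_isometry_of_isSquare h2 _ _ (hS hs) (hS hs') (Pi.basisFun K ι) (Pi.basisFun K ι)
    rfl (by rwa [hM]) (by rwa [hM]) (by rwa [hM, hM])
  exact ⟨g, fun x y => by rw [← bil_toBilin, hg, bil_toBilin]⟩

/-- Every multiplier occurs for a symmetric form of even size. -/
theorem exists_sim_symm (h2 : (2 : K) ≠ 0) {B : Matrix ι ι K} (hs : Bᵀ = B) (hd : B.det ≠ 0) {m : ℕ}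
    (hm : Fintype.card ι = 2 * m) (c : Kˣ) : ∃ h : GL ι K, h.1ᵀ * B * h.1 = (c : K) • B := by
  obtain ⟨g, hg⟩ := exists_isometry_symm h2 (B := (c : K) • B) (by rw [Matrix.transpose_smul, hs]) hs
    (by rw [Matrix.det_smul]; exact mul_ne_zero (pow_ne_zero _ c.ne_zero) hd) hd
    ⟨(c : K) ^ m * B.det, by rw [Matrix.det_smul, hm, two_mul, pow_add]; ring⟩
  refine ⟨Matrix.GeneralLinearGroup.toLin.symm (LinearMap.GeneralLinearGroup.ofLinearEquiv g),
    bil_ext fun x y => ?_⟩
  rw [bil_congr, ← hg]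
  have hh : ∀ x, (Matrix.GeneralLinearGroup.toLin.symm
      (LinearMap.GeneralLinearGroup.ofLinearEquiv g)).1 *ᵥ x = g x := fun x => by
    rw [← Matrix.mulVecLin_apply, ← Matrix.GeneralLinearGroup.coe_toLin, MulEquiv.apply_symm_apply]
    rfl
  rw [hh, hh]

/-- A symmetric form has an isometry of determinant `-1`. -/
theorem exists_iso_det_neg (h2 : (2 : K) ≠ 0) [Nonempty ι] {B : Matrix ι ι K} (hs : Bᵀ = B)
    (hd : B.det ≠ 0) : ∃ h : GL ι K, h.1ᵀ * B * h.1 = B ∧ h.1.det = -1 := by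
  obtain ⟨o⟩ := (inferInstance : Nonempty ι)
  obtain ⟨D, hD⟩ : ∃ D : Matrix ι ι K, D = diagonal fun i => if i = o then B.det else 1 := ⟨_, rfl⟩
  have hDd : D.det = B.det := by rw [hD, Matrix.det_diagonal, Finset.prod_ite_eq' Finset.univ o]; simp
  obtain ⟨g, hg⟩ := exists_isometry_symm h2 (B := D) (B' := B) (by rw [hD, Matrix.diagonal_transpose]) hs
    (hDd ▸ hd) hd ⟨B.det, by rw [hDd]⟩
  let s : GL ι K :=
    ⟨diagonal fun i => if i = o then -1 else 1, diagonal fun i => if i = o then -1 else 1,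
      by rw [diagonal_mul_diagonal, ← diagonal_one]; congr 1; funext i; split_ifs <;> simp,
      by rw [diagonal_mul_diagonal, ← diagonal_one]; congr 1; funext i; split_ifs <;> simp⟩
  refine ⟨eGL g s, bil_ext fun x y => ?_, ?_⟩
  · obtain ⟨x, rfl⟩ := g.surjective x
    obtain ⟨y, rfl⟩ := g.surjective y
    rw [bil_congr, eGL_mulVec, eGL_mulVec, hg, hg, ← bil_congr]
    congr 1
    show (diagonal fun i => if i = o then (-1 : K) else 1)ᵀ * D *
      (diagonal fun i => if i = o then (-1 : K) else 1) = D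
    rw [hD, diagonal_transpose, diagonal_mul_diagonal, diagonal_mul_diagonal]
    congr 1; funext i; split_ifs <;> simp
  · rw [det_eGL]
    show (diagonal fun i => if i = o then (-1 : K) else 1).det = -1
    rw [Matrix.det_diagonal, Finset.prod_ite_eq' Finset.univ o]
    simp

end Odd

/-! ### Indices in a cyclic group -/

section Cyclic

variable {U : Type*} [CommGroup U] [IsCyclic U] [Finite U]

theorem index_powRange (n : ℕ) : (powMonoidHom n : U →* U).range.index = Nat.gcd (Nat.card U) n := by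
  rw [IsCyclic.index_powMonoidHom_range]

/-- The index of `⟨ε⟩ U^m` for the involution `ε`. -/
theorem index_sign_powRange {ε : U} (hε : orderOf ε = 2) (m : ℕ) :
    (Subgroup.zpowers ε ⊔ (powMonoidHom m : U →* U).range).index = Nat.gcd (2 * m) (Nat.card U) / 2 := by
  have hN : 2 ∣ Nat.card U := hε ▸ orderOf_dvd_natCard ε
  have hi : (Subgroup.zpowers ε).index = Nat.card U / 2 := by
    have h := (Subgroup.zpowers ε).card_mul_index
    rw [Nat.card_zpowers, hε] at h
    omega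
  rw [CfsgLib.AutPSL.index_sup_of_isCyclic, hi, index_powRange]
  obtain ⟨N, hN'⟩ := hN
  rw [hN', Nat.mul_div_cancel_left _ (by norm_num : 0 < 2), Nat.gcd_mul_left,
    Nat.mul_div_cancel_left _ (by norm_num : 0 < 2), ← Nat.gcd_assoc,
    Nat.gcd_eq_left (Dvd.intro_left 2 rfl), Nat.gcd_comm m]

end Cyclic

/-! ### The orders -/

section Orders

variable [Fintype K]

theorem card_quadSim_le {Q : (ι → K) → K} {v₀ : ι → K} (hv₀ : Q v₀ ≠ 0) :
    Nat.card (Cfsg.Geo.quadSimilarityGroup Q) ≤ Nat.card Kˣ * Nat.card (Cfsg.isometryGroup K Q) := by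
  let μ : Cfsg.Geo.quadSimilarityGroup Q →* Kˣ :=
    { toFun := fun g => g.2.choose
      map_one' := by
        refine Units.ext (mul_right_cancel₀ hv₀ ?_)
        rw [← (1 : Cfsg.Geo.quadSimilarityGroup Q).2.choose_spec v₀]
        simp
      map_mul' := fun a b => by
        refine Units.ext (mul_right_cancel₀ hv₀ ?_)
        rw [← (a * b).2.choose_spec v₀, Subgroup.coe_mul, Units.val_mul, ← Matrix.mulVec_mulVec,
          a.2.choose_spec, b.2.choose_spec, Units.val_mul, mul_assoc] }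
  have hker : Nat.card μ.ker ≤ Nat.card (Cfsg.isometryGroup K Q) := by
    refine Nat.card_le_card_of_injective (fun g => ⟨g.1.1, fun u _ => ?_⟩) fun a b h =>
      Subtype.ext (Subtype.ext (by simpa using congrArg Subtype.val h))
    have h1 := g.1.2.choose_spec u
    rw [show g.1.2.choose = (1 : Kˣ) from g.2, Units.val_one, one_mul] at h1
    exact h1
  rw [← μ.ker.card_mul_index, mul_comm]
  gcongr
  rw [Subgroup.index_ker]
  exact Subgroup.card_le_card_group _

theorem card_projQuot_mul [Nonempty ι] (H : Subgroup (GL ι K)) (hH : Cfsg.Geo.scalars ι K ≤ H) :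
    Nat.card (Cfsg.projQuot H) * Nat.card Kˣ = Nat.card H := by
  have h : Nat.card ((Cfsg.Geo.scalars ι K).subgroupOf H) = Nat.card Kˣ := by
    rw [Nat.card_congr (Subgroup.subgroupOfEquivOfLe hH).toEquiv]
    exact (Nat.card_eq_of_bijective (fun u : Kˣ => (⟨_, u, rfl⟩ : Cfsg.Geo.scalars ι K))
      ⟨fun a b hab => by
        obtain ⟨i⟩ := (inferInstance : Nonempty ι)
        have := congrArg (fun g : Cfsg.Geo.scalars ι K => g.1.1 i i) hab
        exact Units.ext (by simpa using this),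
       fun g => by obtain ⟨_, u, rfl⟩ := g; exact ⟨u, rfl⟩⟩).symm
  rw [← h]
  exact (Subgroup.card_eq_card_quotient_mul_card_subgroup _).symm

theorem card_pgsp {m : ℕ} (hm : 1 ≤ m) : Nat.card (Cfsg.PGSp m K) = Nat.card (Matrix.symplecticGroup (Fin m) K) := by
  have : Nonempty (Fin m ⊕ Fin m) := ⟨Sum.inl ⟨0, hm⟩⟩
  have h1 := card_projQuot_mul (Cfsg.GSp m K) (fun g hg => by
    obtain ⟨u, rfl⟩ := hg
    exact CfsgLib.AutPSp.scalar_mem_GSp u)
  have h2 := (CfsgLib.AutPSp.mult (F := K) hm).ker.card_mul_index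
  have h3 : Nat.card (CfsgLib.AutPSp.spToGSp (F := K) (m := m)).range =
      Nat.card (Matrix.symplecticGroup (Fin m) K) := by
    refine (Nat.card_congr (MonoidHom.ofInjective (f := CfsgLib.AutPSp.spToGSp (F := K) (m := m))
      fun a b h => ?_).toEquiv).symm
    exact Subtype.ext (congrArg (fun g : ↥(Cfsg.GSp m K) => g.1.1) h)
  rw [Subgroup.index_ker, MonoidHom.range_eq_top.2 (CfsgLib.AutPSp.mult_surjective hm),
    CfsgLib.AutPSp.mult_ker, h3, Subgroup.card_top, ← h1] at h2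
  exact (mul_right_cancel₀ Nat.card_pos.ne' h2).symm

/-- An orthogonal group is smaller than the symplectic group of the same size. -/
theorem orth_lt_sp {q : ℕ} (hq : 3 ≤ q) (k : ℕ) (s : ℕ) (hs : s ≤ q ^ (k + 1) + 1) :
    2 * q ^ ((k + 1) * k) * s * ∏ i ∈ Finset.range k, (q ^ (2 * (i + 1)) - 1) <
      q ^ ((k + 1) ^ 2) * ∏ i ∈ Finset.range (k + 1), (q ^ (2 * (i + 1)) - 1) := by
  rw [Finset.prod_range_succ, show (k + 1) ^ 2 = (k + 1) * k + (k + 1) by ring, pow_add]
  have hP : 0 < ∏ i ∈ Finset.range k, (q ^ (2 * (i + 1)) - 1) := by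
    refine Finset.prod_pos fun i _ => Nat.sub_pos_of_lt ?_
    exact Nat.one_lt_pow (by omega) (by omega)
  have hkey : 2 * s < q ^ (k + 1) * (q ^ (2 * (k + 1)) - 1) := by
    have h1 : q ≤ q ^ (k + 1) := le_self_pow₀ (by omega) (by omega)
    rw [show q ^ (2 * (k + 1)) = q ^ (k + 1) * q ^ (k + 1) by rw [← pow_add]; ring_nf]
    generalize q ^ (k + 1) = Q at h1 hs
    have hQQ : 9 ≤ Q * Q := by nlinarith
    calc 2 * s ≤ 2 * (Q + 1) := by omega
      _ < Q * 8 := by omega
      _ ≤ Q * (Q * Q - 1) := Nat.mul_le_mul_left _ (by omega)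
  calc _ = q ^ ((k + 1) * k) * (∏ i ∈ Finset.range k, (q ^ (2 * (i + 1)) - 1)) * (2 * s) := by ring
    _ < q ^ ((k + 1) * k) * (∏ i ∈ Finset.range k, (q ^ (2 * (i + 1)) - 1)) *
        (q ^ (k + 1) * (q ^ (2 * (k + 1)) - 1)) :=
      Nat.mul_lt_mul_of_pos_left hkey (Nat.mul_pos (pow_pos (by omega) _) hP)
    _ = _ := by ring

/-- The orthogonal projective similarity groups are not `PGSp`. -/
theorem not_equiv_pgsp (h2 : (2 : K) ≠ 0) {B : Matrix ι ι K} (hs : Bᵀ = B) (hd : B.det ≠ 0) {k : ℕ}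
    (hk : Fintype.card ι = 2 * (k + 1)) : ¬ Nonempty (Cfsg.projQuot (sim B) ≃* Cfsg.PGSp (k + 1) K) := by
  rintro ⟨E⟩
  have hodd : Odd (Fintype.card K) := by
    rcases Nat.even_or_odd (Fintype.card K) with h | h
    · exfalso
      have hc : ringChar K = 2 := FiniteField.even_card_iff_char_two.2 (Nat.even_iff.1 h)
      have := ringChar.eq_iff.1 hc
      exact h2 CharTwo.two_eq_zero
    · exact h
  have hq3 : 3 ≤ Fintype.card K := by
    obtain ⟨j, hj⟩ := hodd
    have := Fintype.one_lt_card (α := K)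
    omega
  obtain ⟨α, hα⟩ := FiniteField.exists_nonsquare (F := K) (fun hc => h2 (by
    have := ringChar.eq_iff.1 hc; exact CharTwo.two_eq_zero))
  have hP : Nat.card (Cfsg.PGSp (k + 1) K) = Fintype.card K ^ ((k + 1) ^ 2) *
      ∏ i ∈ Finset.range (k + 1), (Fintype.card K ^ (2 * (i + 1)) - 1) := by
    rw [card_pgsp (by omega), card_symplecticGroup]
  have hE := Nat.card_congr E.toEquiv
  have bound : ∀ {κ : Type} [Fintype κ] [DecidableEq κ] [Nonempty κ] (M : Matrix κ κ K) (Q : (κ → K) → K) (v₀ : κ → K)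
      (s : ℕ), Mᵀ = M → (∀ v, Q v = bil M v v) → Q v₀ ≠ 0 → s ≤ Fintype.card K ^ (k + 1) + 1 →
      Nat.card (Cfsg.isometryGroup K Q) = 2 * Fintype.card K ^ ((k + 1) * k) * s *
        ∏ i ∈ Finset.range k, (Fintype.card K ^ (2 * (i + 1)) - 1) → Cong B M → False := by
    intro κ _ _ _ M Q v₀ s hM hQM hv₀ hs hcard hcong
    obtain ⟨E'⟩ := hcong.nonempty_projQuot
    have hq := quadSim_eq_sim h2 hM hQM
    have h1 := card_quadSim_le hv₀
    rw [hq] at h1
    have h3 := card_projQuot_mul (sim M) (hq ▸ fun g hg => by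
      obtain ⟨u, rfl⟩ := hg
      refine ⟨u * u, fun v => ?_⟩
      have : (Units.map (Matrix.scalar κ : K →+* Matrix κ κ K).toMonoidHom u).1 *ᵥ v = (u : K) • v := by
        funext i; simp [Matrix.mulVec_diagonal]
      rw [this, hQM, hQM, bil, Matrix.mulVec_smul, smul_dotProduct, dotProduct_smul, Units.val_mul]
      simp [bil, mul_assoc])
    rw [← h3, ← Nat.card_congr E'.toEquiv, hE, mul_comm, hP, hcard] at h1
    have h4 := Nat.le_of_mul_le_mul_left h1 Nat.card_pos
    exact absurd h4 (not_le.2 (orth_lt_sp hq3 k s hs))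
  rcases cong_plusM_or_minusM h2 hα hs hd hk with h | h
  · have : Nonempty (Fin (k + 1) ⊕ Fin (k + 1)) := ⟨Sum.inl 0⟩
    refine bound (plusM K (k + 1)) (Cfsg.quadFormPlus (k + 1) K) (Sum.elim (Pi.single 0 1) 1)
      (Fintype.card K ^ (k + 1) - 1) (plusM_transpose _) (bil_plusM _ h2) ?_ (by omega) ?_ h
    · simp [Cfsg.quadFormPlus, Pi.single_apply]
    · rw [CfsgLib.Forms4.card_isometryGroup_quadFormPlus rfl _ (by omega), Nat.add_sub_cancel]
  · refine bound (minusM k α) (Cfsg.quadFormMinus k K 0 (-α)) (Sum.elim 0 (Pi.single 0 1))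
      (Fintype.card K ^ (k + 1) + 1) (minusM_transpose _ _) (bil_minusM _ h2 α) ?_ le_rfl ?_ h
    · simp [Cfsg.quadFormMinus]
    · have := CfsgLib.Forms4.card_isometryGroup_quadFormMinus (F := K) rfl (k + 1) (by omega) 0 (-α)
        (anisotropic_of_not_isSquare hα)
      rw [Nat.add_sub_cancel] at this
      exact this

end Orders

end CfsgLib.GraphClass
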