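import Cfsg.Agent.GraphClass.DetImage

/-!
# Involutions classified by forms

A class of involutions of `X`, up to conjugation under `H`, modelled by non-degenerate symmetric and
skew matrices up to congruence; the centralisers are the projective similarity groups.
-/

set_option autoImplicit false
set_option linter.unusedSectionVars false

namespace CfsgLib.GraphClass

open Matrix

variable {X : Type*} [Group X]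

/-- Involutions in the class `Cl` correspond to forms. -/
structure Model (H : Subgroup X) (Cl : X → Prop) (K : Type*) [Field K] (n : ℕ) where
  /-- the form attached to an involution -/
  Att : X → Matrix (Fin n) (Fin n) K → Prop
  exists_att : ∀ γ, Cl γ → orderOf γ = 2 → ∃ B, IsForm B ∧ Att γ B
  exists_real : ∀ B, IsForm B → ∃ γ, Cl γ ∧ orderOf γ = 2 ∧ Att γ B
  conj_iff : ∀ γ γ' B B', Att γ B → Att γ' B' → (Cfsg.IsConjUnder H γ γ' ↔ Cong B B')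
  cent : ∀ γ B, Att γ B → Nonempty (↥(H ⊓ Subgroup.centralizer {γ}) ≃* Cfsg.projQuot (sim B))

variable {H : Subgroup X} {Cl : X → Prop} {K : Type*} [Field K] {n : ℕ}

theorem Model.odd_case [Finite K] (M : Model H Cl K n) {m : ℕ} (hnm : n = 2 * m + 1) {γ γ' : X}
    (hγ : Cl γ) (hγ2 : orderOf γ = 2) (hγ' : Cl γ') (hγ'2 : orderOf γ' = 2) :
    Nonempty (↥(H ⊓ Subgroup.centralizer {γ}) ≃* Cfsg.PGO K (Cfsg.quadFormOdd m K)) ∧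
      Cfsg.IsConjUnder H γ γ' := by
  obtain ⟨B, hB, hA⟩ := M.exists_att γ hγ hγ2
  obtain ⟨B', hB', hA'⟩ := M.exists_att γ' hγ' hγ'2
  obtain ⟨hc, ⟨E⟩⟩ := odd_class hnm hB
  obtain ⟨E'⟩ := M.cent γ B hA
  exact ⟨⟨E'.trans E⟩, (M.conj_iff γ γ' B B' hA hA').2 (hc B' hB')⟩

theorem Model.even_odd_case [Finite K] (M : Model H Cl K n) (h2 : (2 : K) ≠ 0) {α : K} (hα : ¬ IsSquare α)
    {m : ℕ} (hm : 1 ≤ m) (hnm : n = 2 * m) :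
    ∃ (γ₁ γ₂ γ₃ : X) (a b : K), (∀ z₁ z₂ : K, z₁ ^ 2 + a * z₁ * z₂ + b * z₂ ^ 2 = 0 → z₁ = 0 ∧ z₂ = 0) ∧
      Cl γ₁ ∧ orderOf γ₁ = 2 ∧ Cl γ₂ ∧ orderOf γ₂ = 2 ∧ Cl γ₃ ∧ orderOf γ₃ = 2 ∧
      ¬ Cfsg.IsConjUnder H γ₁ γ₂ ∧ ¬ Cfsg.IsConjUnder H γ₁ γ₃ ∧ ¬ Cfsg.IsConjUnder H γ₂ γ₃ ∧
      (∀ γ, Cl γ → orderOf γ = 2 →
        Cfsg.IsConjUnder H γ₁ γ ∨ Cfsg.IsConjUnder H γ₂ γ ∨ Cfsg.IsConjUnder H γ₃ γ) ∧
      Nonempty (↥(H ⊓ Subgroup.centralizer {γ₁}) ≃* Cfsg.PGSp m K) ∧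
      Nonempty (↥(H ⊓ Subgroup.centralizer {γ₂}) ≃* Cfsg.PGO K (Cfsg.quadFormPlus m K)) ∧
      Nonempty (↥(H ⊓ Subgroup.centralizer {γ₃}) ≃* Cfsg.PGO K (Cfsg.quadFormMinus (m - 1) K a b)) := by
  obtain ⟨k, rfl⟩ : ∃ k, m = k + 1 := ⟨m - 1, by omega⟩
  obtain ⟨B₁, B₂, B₃, f₁, f₂, f₃, n12, n13, n23, c₁, c₂, c₃, hall⟩ := even_odd_classes h2 hα hnm
  obtain ⟨γ₁, h1, o1, a1⟩ := M.exists_real B₁ f₁
  obtain ⟨γ₂, h2', o2, a2⟩ := M.exists_real B₂ f₂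
  obtain ⟨γ₃, h3, o3, a3⟩ := M.exists_real B₃ f₃
  refine ⟨γ₁, γ₂, γ₃, 0, -α, anisotropic_of_not_isSquare hα, h1, o1, h2', o2, h3, o3,
    fun h => n12 ((M.conj_iff _ _ _ _ a1 a2).1 h), fun h => n13 ((M.conj_iff _ _ _ _ a1 a3).1 h),
    fun h => n23 ((M.conj_iff _ _ _ _ a2 a3).1 h), fun γ hγ hγ2 => ?_, ?_, ?_, ?_⟩
  · obtain ⟨B, hB, hA⟩ := M.exists_att γ hγ hγ2
    exact (hall B hB).imp (M.conj_iff _ _ _ _ a1 hA).2 (Or.imp (M.conj_iff _ _ _ _ a2 hA).2 (M.conj_iff _ _ _ _ a3 hA).2)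
  · obtain ⟨E⟩ := M.cent _ _ a1
    obtain ⟨E'⟩ := c₁.nonempty_projQuot
    exact ⟨E.trans E'⟩
  · obtain ⟨E⟩ := M.cent _ _ a2
    obtain ⟨E'⟩ := c₂.nonempty_projQuot
    change Nonempty (_ ≃* Cfsg.projQuot (Cfsg.Geo.quadSimilarityGroup (Cfsg.quadFormPlus (k + 1) K)))
    rw [quadSim_plus (k + 1) h2]
    exact ⟨E.trans E'⟩
  · obtain ⟨E⟩ := M.cent _ _ a3
    obtain ⟨E'⟩ := c₃.nonempty_projQuot
    change Nonempty (_ ≃* Cfsg.projQuot (Cfsg.Geo.quadSimilarityGroup (Cfsg.quadFormMinus k K 0 (-α))))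
    rw [quadSim_minus k h2]
    exact ⟨E.trans E'⟩

theorem Model.even_two_case [CharP K 2] [Finite K] (M : Model H Cl K n) {m : ℕ} (hm : 1 ≤ m) (hnm : n = 2 * m) :
    ∃ (γ₁ γ₃ : X) (t : ↥(Matrix.symplecticGroup (Fin m) K)),
      Cfsg.IsTransvection (t : Matrix (Fin m ⊕ Fin m) (Fin m ⊕ Fin m) K) ∧
      Cl γ₁ ∧ orderOf γ₁ = 2 ∧ Cl γ₃ ∧ orderOf γ₃ = 2 ∧ ¬ Cfsg.IsConjUnder H γ₁ γ₃ ∧
      (∀ γ, Cl γ → orderOf γ = 2 → Cfsg.IsConjUnder H γ₁ γ ∨ Cfsg.IsConjUnder H γ₃ γ) ∧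
      Nonempty (↥(H ⊓ Subgroup.centralizer {γ₁}) ≃* ↥(Matrix.symplecticGroup (Fin m) K)) ∧
      Nonempty (↥(H ⊓ Subgroup.centralizer {γ₃}) ≃*
        ↥(Subgroup.centralizer ({t} : Set ↥(Matrix.symplecticGroup (Fin m) K)))) := by
  obtain ⟨B₁, B₃, f₁, f₃, n13, c₁, c₃, hall⟩ := even_two_classes (K := K) hm hnm
  obtain ⟨γ₁, h1, o1, a1⟩ := M.exists_real B₁ f₁
  obtain ⟨γ₃, h3, o3, a3⟩ := M.exists_real B₃ f₃
  refine ⟨γ₁, γ₃, transvSp K hm, isTransvection_transvM hm, h1, o1, h3, o3,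
    fun h => n13 ((M.conj_iff _ _ _ _ a1 a3).1 h), fun γ hγ hγ2 => ?_, ?_, ?_⟩
  · obtain ⟨B, hB, hA⟩ := M.exists_att γ hγ hγ2
    exact (hall B hB).imp (M.conj_iff _ _ _ _ a1 hA).2 (M.conj_iff _ _ _ _ a3 hA).2
  · obtain ⟨E⟩ := M.cent _ _ a1
    obtain ⟨E'⟩ := c₁.nonempty_projQuot
    obtain ⟨E''⟩ := nonempty_sp_pgsp (K := K) (m := m)
    exact ⟨E.trans (E'.trans E''.symm)⟩
  · obtain ⟨E⟩ := M.cent _ _ a3
    obtain ⟨E'⟩ := c₃.nonempty_projQuot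
    obtain ⟨E''⟩ := nonempty_centralizer_evenTwo (K := K) hm
    exact ⟨E.trans (E'.trans E''.symm)⟩

end CfsgLib.GraphClass
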