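import Cfsg.Agent.GraphClass.Model
import Cfsg.Agent.AutPSL.GraphCentralizer

/-!
# Involutory graph automorphisms of `PSL_n(F)` as forms
-/

set_option autoImplicit false
set_option linter.unusedSectionVars false

namespace CfsgLib.GraphClass

open Matrix CfsgLib.AutPSL

variable {F : Type*} [Field F] [Fintype F] {n : ℕ}

theorem scalar_val (c : Fˣ) : (Matrix.GeneralLinearGroup.scalar (Fin n) c).1 = (c : F) • 1 := by
  ext i j
  by_cases h : i = j <;> simp [h]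

theorem scalar_comm (c : Fˣ) (g : GL (Fin n) F) :
    g * Matrix.GeneralLinearGroup.scalar (Fin n) c = Matrix.GeneralLinearGroup.scalar (Fin n) c * g :=
  Units.ext (by rw [Units.val_mul, Units.val_mul, scalar_val]; simp)

theorem invTransGL_inv_val (g : GL (Fin n) F) : ((invTransGL g)⁻¹ : GL (Fin n) F).1 = g.1ᵀ := rfl

theorem graphAut_eq_iff (hn : 3 ≤ n) (g g' : GL (Fin n) F) :
    graphAut g = graphAut g' ↔ ∃ c : Fˣ, g' = Matrix.GeneralLinearGroup.scalar (Fin n) c * g := by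
  obtain ⟨p, hp⟩ := CharP.exists F
  have : Fact p.Prime := ⟨CharP.char_is_prime F p⟩
  have : Nontrivial (Fin n) := Fin.nontrivial_iff_two_le.2 (by omega)
  rw [graphAut, graphAut, (toPSLAut_injective p).eq_iff, mul_left_inj, eq_comm, ← mul_inv_eq_one, ← map_inv,
    ← map_mul, conjSL_eq_one_iff]
  exact exists_congr fun c => mul_inv_eq_iff_eq_mul

theorem conj_graphAut (h g : GL (Fin n) F) :
    innDiagHom h * graphAut g * (innDiagHom h)⁻¹ = graphAut (h * g * (invTransGL h)⁻¹) := by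
  have e : innDiagHom h = toPSLAut (conjSL h) := rfl
  rw [e, graphAut, graphAut, ← map_inv, ← map_mul, ← map_mul]
  congr 1
  have hinv : invTransGL h⁻¹ = (invTransGL h)⁻¹ := Units.ext (by simp [invTransGL])
  rw [← map_inv conjSL, ← mul_assoc, mul_assoc, invTransSL_mul_conjSL, hinv, ← mul_assoc, ← map_mul, ← map_mul]

/-- Conjugacy of graph automorphisms is congruence of the inverse matrices. -/
theorem conj_graphAut_eq_iff (hn : 3 ≤ n) (h g g' : GL (Fin n) F) :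
    innDiagHom h * graphAut g * (innDiagHom h)⁻¹ = graphAut g' ↔
      ∃ c : Fˣ, h.1ᵀ * (g'⁻¹ : GL (Fin n) F).1 * h.1 = (c : F) • (g⁻¹ : GL (Fin n) F).1 := by
  rw [conj_graphAut, graphAut_eq_iff hn]
  set T := (invTransGL h)⁻¹ with hT
  constructor
  · rintro ⟨c, rfl⟩
    refine ⟨c⁻¹, ?_⟩
    rw [← invTransGL_inv_val h, ← hT, ← Units.val_mul, ← Units.val_mul]
    have e : T * (Matrix.GeneralLinearGroup.scalar (Fin n) c * (h * g * T))⁻¹ * h =
        Matrix.GeneralLinearGroup.scalar (Fin n) c⁻¹ * g⁻¹ := by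
      rw [_root_.mul_inv_rev, _root_.mul_inv_rev, _root_.mul_inv_rev, ← map_inv]
      calc T * (T⁻¹ * (g⁻¹ * h⁻¹) * Matrix.GeneralLinearGroup.scalar (Fin n) c⁻¹) * h
          = g⁻¹ * h⁻¹ * (Matrix.GeneralLinearGroup.scalar (Fin n) c⁻¹ * h) := by group
        _ = g⁻¹ * h⁻¹ * (h * Matrix.GeneralLinearGroup.scalar (Fin n) c⁻¹) := by rw [scalar_comm]
        _ = g⁻¹ * Matrix.GeneralLinearGroup.scalar (Fin n) c⁻¹ := by group
        _ = _ := scalar_comm _ _
    rw [e, Units.val_mul, scalar_val, Matrix.smul_mul, Matrix.one_mul]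
  · rintro ⟨c, hc⟩
    have e : T * g'⁻¹ * h = Matrix.GeneralLinearGroup.scalar (Fin n) c * g⁻¹ := Units.ext (by
      rw [Units.val_mul, Units.val_mul, Units.val_mul, scalar_val, hT, invTransGL_inv_val, hc,
        Matrix.smul_mul, Matrix.one_mul])
    refine ⟨c⁻¹, ?_⟩
    have e2 : g'⁻¹ = T⁻¹ * (Matrix.GeneralLinearGroup.scalar (Fin n) c * g⁻¹) * h⁻¹ := by
      rw [← e]; group
    rw [← inv_inv g', e2, map_inv]
    calc (T⁻¹ * (Matrix.GeneralLinearGroup.scalar (Fin n) c * g⁻¹) * h⁻¹)⁻¹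
        = h * g * ((Matrix.GeneralLinearGroup.scalar (Fin n) c)⁻¹ * T) := by group
      _ = h * g * (T * (Matrix.GeneralLinearGroup.scalar (Fin n) c)⁻¹) := by rw [← map_inv, scalar_comm]
      _ = _ := by rw [← mul_assoc, ← map_inv, scalar_comm]

theorem commute_graphAut_iff (hn : 3 ≤ n) (h g : GL (Fin n) F) :
    innDiagHom h ∈ Subgroup.centralizer {graphAut g} ↔ h ∈ sim (g⁻¹ : GL (Fin n) F).1 := by
  rw [Subgroup.mem_centralizer_singleton_iff, mem_sim_iff, ← conj_graphAut_eq_iff hn, mul_inv_eq_iff_eq_mul]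

theorem innDiag_eq_one_iff (hn : 2 ≤ n) (h : GL (Fin n) F) :
    innDiagHom h = 1 ↔ h ∈ Cfsg.Geo.scalars (Fin n) F := by
  obtain ⟨p, hp⟩ := CharP.exists F
  have : Fact p.Prime := ⟨CharP.char_is_prime F p⟩
  have : Nontrivial (Fin n) := Fin.nontrivial_iff_two_le.2 hn
  show toPSLAut (conjSL h) = 1 ↔ _
  rw [map_eq_one_iff _ (toPSLAut_injective p), conjSL_eq_one_iff]
  exact exists_congr fun u => eq_comm

theorem scalars_eq_range : Cfsg.Geo.scalars (Fin n) F = (Matrix.GeneralLinearGroup.scalar (Fin n)).range := rfl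

theorem nonempty_centralizer_graphAut (hn : 3 ≤ n) (g : GL (Fin n) F) :
    Nonempty (↥(Cfsg.inndiagPSL n F ⊓ Subgroup.centralizer {graphAut g}) ≃*
      Cfsg.projQuot (sim (g⁻¹ : GL (Fin n) F).1)) := by
  let ψ : ↥(sim (g⁻¹ : GL (Fin n) F).1) →* ↥(Cfsg.inndiagPSL n F ⊓ Subgroup.centralizer {graphAut g}) :=
    ((innDiagHom).comp (Subgroup.subtype _)).codRestrict _ fun h =>
      ⟨mem_inndiagPSL_iff.2 ⟨h.1, rfl⟩, (commute_graphAut_iff hn _ _).2 h.2⟩
  have hsurj : Function.Surjective ψ := by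
    rintro ⟨x, hx, hxc⟩
    obtain ⟨h, rfl⟩ := mem_inndiagPSL_iff.1 hx
    exact ⟨⟨h, (commute_graphAut_iff hn h g).1 hxc⟩, rfl⟩
  refine ⟨((QuotientGroup.quotientMulEquivOfEq ?_).trans
    (QuotientGroup.quotientKerEquivOfSurjective ψ hsurj)).symm⟩
  ext h
  rw [Subgroup.mem_subgroupOf, MonoidHom.mem_ker, ← innDiag_eq_one_iff (by omega), Subtype.ext_iff]
  rfl

theorem isGraphAutClassPSL_iff {γ : MulAut (Matrix.ProjectiveSpecialLinearGroup (Fin n) F)} :
    Cfsg.IsGraphAutClassPSL γ ↔ 3 ≤ n ∧ ∃ g, γ = graphAut g := by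
  refine and_congr_right fun _ => ⟨?_, ?_⟩
  · rintro ⟨δ, ι, hδ, hι, rfl⟩
    obtain ⟨g, rfl⟩ := (isInnerDiagonalAutPSL_iff δ).1 hδ
    rw [(isInverseTransposeAutPSL_iff ι).1 hι, ← map_mul]
    exact ⟨g, rfl⟩
  · rintro ⟨g, rfl⟩
    exact ⟨_, _, (isInnerDiagonalAutPSL_iff _).2 ⟨g, rfl⟩, (isInverseTransposeAutPSL_iff _).2 rfl,
      by rw [← map_mul]; rfl⟩

theorem graphAut_ne_one (hn : 3 ≤ n) (g : GL (Fin n) F) : graphAut g ≠ 1 := by
  obtain ⟨p, hp⟩ := CharP.exists F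
  have : Fact p.Prime := ⟨CharP.char_is_prime F p⟩
  have : Nontrivial (Fin n) := Fin.nontrivial_iff_two_le.2 (by omega)
  intro h
  rw [graphAut, map_eq_one_iff _ (toPSLAut_injective p)] at h
  refine semilinear_ne_mul_invTrans (g := g) (g' := 1) (σ := 1) (σ' := 1) (by simpa using hn) ?_
  rw [map_one, map_one, mul_one, one_mul, h]

/-- A graph automorphism is an involution exactly when its matrix is symmetric or skew. -/
theorem orderOf_graphAut_iff (hn : 3 ≤ n) (g : GL (Fin n) F) :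
    orderOf (graphAut g) = 2 ↔ IsForm (g⁻¹ : GL (Fin n) F).1 := by
  obtain ⟨p, hp⟩ := CharP.exists F
  have : Fact p.Prime := ⟨CharP.char_is_prime F p⟩
  have : Nontrivial (Fin n) := Fin.nontrivial_iff_two_le.2 (by omega)
  have hsq : graphAut g ^ 2 = 1 ↔ ∃ c : Fˣ, g * invTransGL g = Matrix.GeneralLinearGroup.scalar (Fin n) c := by
    rw [graphAut, ← map_pow, ← map_one (toPSLAut (ι := Fin n) (F := F)), (toPSLAut_injective p).eq_iff,
      show conjSL g * invTransSL = conjSL g * (fieldSL (1 : F ≃+* F) * invTransSL) by rw [map_one, one_mul],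
      conjSL_graphField_sq, mapGL_one_apply, one_pow, map_one, mul_one, conjSL_eq_one_iff]
  constructor
  · intro h
    obtain ⟨c, hc⟩ := hsq.1 (h ▸ pow_orderOf_eq_one _)
    have e : (invTransGL g)⁻¹ * g⁻¹ = Matrix.GeneralLinearGroup.scalar (Fin n) c⁻¹ := by
      rw [map_inv, ← hc, _root_.mul_inv_rev]
    have hg : g.1ᵀ * (g⁻¹ : GL (Fin n) F).1 = ((c⁻¹ : Fˣ) : F) • (1 : Matrix (Fin n) (Fin n) F) := by
      have := congrArg Units.val e
      rwa [Units.val_mul, scalar_val, invTransGL_inv_val] at this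
    have hG : (g⁻¹ : GL (Fin n) F).1 = ((c⁻¹ : Fˣ) : F) • (g⁻¹ : GL (Fin n) F).1ᵀ := by
      have := congrArg ((g⁻¹ : GL (Fin n) F).1ᵀ * ·) hg
      simp only [← Matrix.mul_assoc, ← Matrix.transpose_mul, g.mul_inv, Matrix.transpose_one, Matrix.one_mul,
        Matrix.mul_smul, Matrix.mul_one] at this
      exact this
    refine ⟨(g⁻¹).det.ne_zero, ?_⟩
    have hT : (g⁻¹ : GL (Fin n) F).1ᵀ = (c : F) • (g⁻¹ : GL (Fin n) F).1 := by
      conv_rhs => rw [hG, smul_smul, Units.mul_inv, one_smul]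
    have hcc : ((c : F) * c) • (g⁻¹ : GL (Fin n) F).1 = (1 : F) • (g⁻¹ : GL (Fin n) F).1 := by
      rw [one_smul, ← smul_smul, ← hT, ← Matrix.transpose_smul, ← hT, Matrix.transpose_transpose]
    have hne : (g⁻¹ : GL (Fin n) F).1 ≠ 0 := fun h0 => (g⁻¹).det.ne_zero (by
      rw [Matrix.GeneralLinearGroup.val_det_apply, h0]; exact Matrix.det_zero)
    rcases mul_self_eq_one_iff.1 (smul_left_injective F hne hcc) with h1 | h1
    · exact Or.inl (by rw [hT, h1, one_smul])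
    · exact Or.inr (by rw [hT, h1, neg_one_smul])
  · intro hB
    refine orderOf_eq_prime (hsq.2 ?_) (graphAut_ne_one hn g)
    obtain ⟨c, hc⟩ : ∃ c : Fˣ, (g⁻¹ : GL (Fin n) F).1ᵀ = (c : F) • (g⁻¹ : GL (Fin n) F).1 :=
      hB.symm.elim (fun h => ⟨1, by rw [Units.val_one, one_smul]; exact h⟩)
        (fun h => ⟨-1, by rw [Units.val_neg, Units.val_one, neg_one_smul]; exact h⟩)
    refine ⟨c, Units.ext ?_⟩
    rw [Units.val_mul, scalar_val, show (invTransGL g).1 = (g⁻¹ : GL (Fin n) F).1ᵀ from rfl, hc,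
      Matrix.mul_smul, g.mul_inv]

variable (F n) in
/-- The involutory graph automorphisms of `PSL_n(F)` as forms. -/
noncomputable def pslModel (hn : 3 ≤ n) :
    Model (Cfsg.inndiagPSL n F) (fun γ => Cfsg.IsGraphAutClassPSL γ) F n where
  Att γ B := ∃ g, γ = graphAut g ∧ (g⁻¹ : GL (Fin n) F).1 = B
  exists_att γ hγ hγ2 := by
    obtain ⟨-, g, rfl⟩ := isGraphAutClassPSL_iff.1 hγ
    exact ⟨_, (orderOf_graphAut_iff hn g).1 hγ2, g, rfl, rfl⟩
  exists_real B hB := by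
    let G := Matrix.GeneralLinearGroup.mkOfDetNeZero B hB.det
    have e : ((G⁻¹)⁻¹ : GL (Fin n) F).1 = B := by rw [inv_inv]; rfl
    exact ⟨graphAut G⁻¹, isGraphAutClassPSL_iff.2 ⟨hn, _, rfl⟩, (orderOf_graphAut_iff hn _).2 (e ▸ hB),
      _, rfl, e⟩
  conj_iff γ γ' B B' := by
    rintro ⟨g, rfl, rfl⟩ ⟨g', rfl, rfl⟩
    constructor
    · rintro ⟨x, hx, he⟩
      obtain ⟨h, rfl⟩ := mem_inndiagPSL_iff.1 hx
      obtain ⟨c, hc⟩ := (conj_graphAut_eq_iff hn h g g').1 he.symm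
      exact cong_of_gl h c hc
    · intro hcong
      obtain ⟨P, c, hc⟩ := hcong.exists_gl
      exact ⟨innDiagHom P, mem_inndiagPSL_iff.2 ⟨P, rfl⟩, ((conj_graphAut_eq_iff hn P g g').2 ⟨c, hc⟩).symm⟩
  cent γ B := by
    rintro ⟨g, rfl, rfl⟩
    exact nonempty_centralizer_graphAut hn g

end CfsgLib.GraphClass
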