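import Cfsg.Agent.GraphClass.Model
import Cfsg.Agent.GraphClass.ModelPSL
import Cfsg.Agent.AutPSU.LocalBalanceUnitary
import Cfsg.Agent.AutPSL.Involution

/-!
# Involutory graph automorphisms of `PSU_n(q)` as forms over the field with `q` elements

`γ = g ∘ bar`; writing `g = μ Q Q̄⁻¹`, the Hermitian form restricted to `Q F₀^n` is a multiple of a
symmetric or skew matrix `B` over `F₀`: `Qᵀ Q̄ = d B`.
-/

set_option autoImplicit false
set_option linter.unusedSectionVars false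

namespace CfsgLib.GraphClass

open Matrix CfsgLib.RepBounds.Unit CfsgLib.AutPSU
open CfsgLib.AutPSL (mapGL)

variable {F : Type*} [Field F] [Fintype F] {n : ℕ} (C : ConjField F)
variable {K : Type*} [Field K] (e : K →+* F)

/-- `B` is attached to `g`. -/
def Rep (g : GL (Fin n) F) (B : Matrix (Fin n) (Fin n) K) : Prop :=
  ∃ (Q : GL (Fin n) F) (μ d : F), μ ≠ 0 ∧ d ≠ 0 ∧ g.1 = μ • (Q * (mapGL (barEquiv C) Q)⁻¹ : GL (Fin n) F).1 ∧
    Q.1ᵀ * Q.1.map C.σ = d • B.map e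

theorem exists_div_conj {a : F} (ha : a * C.σ a = 1) : ∃ w, w ≠ 0 ∧ a = w / C.σ w := by
  obtain ⟨x, hx⟩ : ∃ x, x + a * C.σ x ≠ 0 := by
    by_contra h
    push Not at h
    have h1 := h 1
    rw [map_one, mul_one] at h1
    exact C.ne_id (RingHom.ext fun x => by
      have h3 := h x
      rw [show a = -1 by linear_combination h1] at h3
      show C.σ x = x
      linear_combination -h3)
  refine ⟨_, hx, ?_⟩
  rw [eq_div_iff ((map_ne_zero C.σ).2 hx), map_add, map_mul, C.invol]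
  linear_combination x * ha

theorem exists_fixed_scale {c : F} (hc : c * c = 1) : ∃ d : F, d ≠ 0 ∧ C.σ d = c * d := by
  rcases mul_self_eq_one_iff.1 hc with rfl | rfl
  · exact ⟨1, one_ne_zero, by rw [map_one, mul_one]⟩
  · obtain ⟨δ, hδ, hδ0⟩ := C.exists_skew_ne
    exact ⟨δ, hδ0, by rw [C.skew_eq hδ, neg_one_mul]⟩

theorem scalar_val_gen {L : Type*} [Field L] (c : Lˣ) :
    (Matrix.GeneralLinearGroup.scalar (Fin n) c).1 = (c : L) • 1 := by
  ext i j
  by_cases h : i = j <;> simp [h]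

theorem mapGL_bar_bar (A : GL (Fin n) F) : mapGL (barEquiv C) (mapGL (barEquiv C) A) = A :=
  Units.ext (Matrix.ext fun _ _ => C.invol _)

theorem mapGL_bar_val (A : GL (Fin n) F) : (mapGL (barEquiv C) A).1 = A.1.map C.σ := rfl

theorem map_bar_bar (A : Matrix (Fin n) (Fin n) F) : (A.map C.σ).map C.σ = A :=
  Matrix.ext fun _ _ => C.invol _

theorem map_smul' {L L' : Type*} [Field L] [Field L'] (f : L →+* L') (c : L) (A : Matrix (Fin n) (Fin n) L) :
    (c • A).map f = f c • A.map f := Matrix.ext fun _ _ => by simp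

variable {C e}
variable (hfix : ∀ x, C.σ x = x ↔ x ∈ Set.range e)
include hfix

theorem bar_e (x : K) : C.σ (e x) = e x := (hfix _).2 ⟨x, rfl⟩

theorem map_e_bar (A : Matrix (Fin n) (Fin n) K) : (A.map e).map C.σ = A.map e :=
  Matrix.ext fun _ _ => bar_e hfix _

theorem exists_preimage (M : Matrix (Fin n) (Fin n) F) (h : M.map C.σ = M) :
    ∃ A : Matrix (Fin n) (Fin n) K, A.map e = M := by
  choose a ha using fun i j => (hfix (M i j)).1 (congrFun (congrFun h i) j)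
  exact ⟨Matrix.of a, Matrix.ext fun i j => ha i j⟩

omit hfix in
theorem map_e_injective {A B : Matrix (Fin n) (Fin n) K} (h : A.map e = B.map e) : A = B :=
  Matrix.ext fun i j => e.injective (congrFun (congrFun h i) j)

omit hfix in
theorem det_map_e (A : Matrix (Fin n) (Fin n) K) : (A.map e).det = e A.det :=
  (RingHom.map_det e A).symm

/-- An involution `g ∘ bar` has a form. -/
theorem exists_rep (hn : 3 ≤ n) (hs : ¬ (n = 3 ∧ C.q = 2)) (g : ↥(Cfsg.GU n F C.q))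
    (hg : semiAut g (barEquiv C) ^ 2 = 1) : ∃ B, IsForm B ∧ Rep C e g.1 B := by
  have : Nonempty (Fin n) := ⟨⟨0, by omega⟩⟩
  rw [pow_two, semiAut_mul, show barEquiv C * barEquiv C = 1 from RingEquiv.ext C.invol, semiAut, map_one,
    mul_one, map_eq_one_iff _ (toPSUAut_injective C.card hn hs)] at hg
  obtain ⟨c, -, hc⟩ := (conjSU_eq_one_iff C.card hn).1 hg
  rw [Subgroup.coe_mul, mapGU_val] at hc
  have hgv : g.1.1 * g.1.1.map C.σ = (c : F) • 1 := by
    have := congrArg Units.val hc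
    rwa [Units.val_mul, mapGL_bar_val, scalar_val] at this
  have hgu : g.1.1ᵀ * g.1.1.map C.σ = 1 := (mem_GU_iff_matrix C).1 g.2
  have hgc : g.1.1 = (c : F) • g.1.1ᵀ := by
    calc g.1.1 = g.1.1 * (g.1.1.map C.σ * g.1.1ᵀ) := by rw [mul_eq_one_comm.1 hgu, Matrix.mul_one]
      _ = _ := by rw [← Matrix.mul_assoc, hgv, Matrix.smul_mul, Matrix.one_mul]
  have hcc : (c : F) * c = 1 := by
    have h1 : g.1.1 = ((c : F) * c) • g.1.1 := by
      conv_lhs => rw [hgc, hgc, Matrix.transpose_smul, Matrix.transpose_transpose, smul_smul]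
    have hne : g.1.1 ≠ 0 := fun h0 => g.1.det.ne_zero (by
      rw [Matrix.GeneralLinearGroup.val_det_apply, h0]; exact Matrix.det_zero)
    exact smul_left_injective F hne (h1.symm.trans (one_smul F _).symm)
  have hcfix : C.σ (c : F) = c := by
    rcases mul_self_eq_one_iff.1 hcc with h | h <;> simp [h]
  obtain ⟨l, hl⟩ := CfsgLib.Forms.exists_mul_involution_eq C.ne_id C.invol (c := (c : F)) hcfix
  have hl0 : l ≠ 0 := fun h0 => c.ne_zero (by rw [← hl, h0, zero_mul])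
  set M : GL (Fin n) F := Matrix.GeneralLinearGroup.scalar (Fin n) (Units.mk0 l hl0)⁻¹ * g.1 with hM
  have hMv : M.1 = l⁻¹ • g.1.1 := by
    rw [hM, Units.val_mul, scalar_val, Matrix.smul_mul, Matrix.one_mul, Units.val_inv_eq_inv_val, Units.val_mk0]
  have hMM : M * mapGL (barEquiv C) M = 1 := Units.ext (by
    rw [Units.val_mul, mapGL_bar_val, hMv, map_smul', Matrix.smul_mul, Matrix.mul_smul, smul_smul, hgv,
      smul_smul, map_inv₀, ← mul_inv, hl, inv_mul_cancel₀ c.ne_zero, one_smul, Units.val_one])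
  obtain ⟨Q, hQ⟩ := CfsgLib.AutPSL.exists_eq_mul_map_inv (orderOf_barEquiv C) two_pos (g := M) (by
    rw [CfsgLib.AutPSL.twNorm_succ, CfsgLib.AutPSL.twNorm_succ, CfsgLib.AutPSL.twNorm_zero, map_one, mul_one, hMM])
  have hgQ : g.1.1 = l • (Q * (mapGL (barEquiv C) Q)⁻¹ : GL (Fin n) F).1 := by
    rw [← hQ, hMv, smul_smul, mul_inv_cancel₀ hl0, one_smul]
  set H : Matrix (Fin n) (Fin n) F := Q.1ᵀ * Q.1.map C.σ with hH
  have hherm : Hᵀ = H.map C.σ := by
    rw [hH, Matrix.transpose_mul, Matrix.transpose_transpose, Matrix.map_mul, map_bar_bar, Matrix.transpose_map]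
  have hgQb : g.1.1 * Q.1.map C.σ = l • Q.1 := by
    rw [hgQ, Units.val_mul, Matrix.smul_mul, Matrix.mul_assoc, ← mapGL_bar_val, Units.inv_mul, Matrix.mul_one]
  have hgQb' : g.1.1.map C.σ * Q.1 = C.σ l • Q.1.map C.σ := by
    have := congrArg (fun A : Matrix (Fin n) (Fin n) F => A.map C.σ) hgQb
    rwa [Matrix.map_mul, map_bar_bar, map_smul'] at this
  have hHT : Hᵀ = (c : F) • H := by
    calc Hᵀ = (Q.1.map C.σ)ᵀ * (g.1.1ᵀ * g.1.1.map C.σ) * Q.1 := by
          rw [hgu, Matrix.mul_one, hH, Matrix.transpose_mul, Matrix.transpose_transpose]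
      _ = (g.1.1 * Q.1.map C.σ)ᵀ * (g.1.1.map C.σ * Q.1) := by
          rw [Matrix.transpose_mul]; simp only [Matrix.mul_assoc]
      _ = _ := by
          rw [hgQb, hgQb', Matrix.transpose_smul, Matrix.smul_mul, Matrix.mul_smul, smul_smul, hl, ← hH]
  obtain ⟨d, hd0, hd⟩ := exists_fixed_scale C hcc
  have hd' : C.σ d⁻¹ = (c : F) * d⁻¹ := by
    rw [map_inv₀, hd, mul_inv, inv_eq_of_mul_eq_one_right hcc]
  obtain ⟨B, hB⟩ := exists_preimage hfix (d⁻¹ • H) (by
    rw [map_smul', ← hherm, hd', hHT, smul_smul, mul_comm (c : F), mul_assoc, hcc, mul_one])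
  have hrep : H = d • B.map e := by rw [hB, smul_smul, mul_inv_cancel₀ hd0, one_smul]
  refine ⟨B, ⟨?_, ?_⟩, Q, l, d, hl0, hd0, hgQ, hrep⟩
  · intro h0
    have : H.det = 0 := by rw [hrep, Matrix.det_smul, det_map_e, h0, map_zero, mul_zero]
    rw [hH, Matrix.det_mul, Matrix.det_transpose, show (Q.1.map C.σ).det = C.σ Q.1.det from (C.σ.map_det _).symm]
      at this
    rcases mul_eq_zero.1 this with h | h
    · exact Q.det.ne_zero h
    · exact Q.det.ne_zero ((map_eq_zero C.σ).1 h)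
  · have hBT : Bᵀ.map e = (c : F) • B.map e := by
      rw [Matrix.transpose_map, hB, Matrix.transpose_smul, hHT, smul_comm]
    rcases mul_self_eq_one_iff.1 hcc with h | h
    · exact Or.inl (map_e_injective (by rw [hBT, h, one_smul]))
    · exact Or.inr (map_e_injective (by rw [hBT, h, neg_one_smul]; ext i j; simp))

omit hfix in
theorem Rep.nondeg_aux {g : GL (Fin n) F} {B : Matrix (Fin n) (Fin n) K} (h : Rep C e g B) : B.det ≠ 0 := by
  obtain ⟨Q, μ, d, hμ, hd, -, hQ⟩ := h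
  intro h0
  have h1 := congrArg Matrix.det hQ
  rw [Matrix.det_mul, Matrix.det_transpose, show (Q.1.map C.σ).det = C.σ Q.1.det from (C.σ.map_det _).symm,
    Matrix.det_smul, det_map_e, h0, map_zero, mul_zero] at h1
  rcases mul_eq_zero.1 h1 with h | h
  · exact Q.det.ne_zero h
  · exact Q.det.ne_zero ((map_eq_zero C.σ).1 h)

omit hfix in
theorem gram_hermitian (Q : Matrix (Fin n) (Fin n) F) :
    (Qᵀ * Q.map C.σ).map C.σ = (Qᵀ * Q.map C.σ)ᵀ := by
  rw [Matrix.transpose_mul, Matrix.transpose_transpose, Matrix.map_mul, map_bar_bar, Matrix.transpose_map]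

omit hfix in
theorem det_ne_ne_zero [Nonempty (Fin n)] {B : Matrix (Fin n) (Fin n) K} (h : B.det ≠ 0) : B ≠ 0 :=
  fun h0 => h (by rw [h0]; exact Matrix.det_zero)

omit hfix in
/-- Conjugation of `g ∘ bar` by `h`. -/
theorem semi_conj_iff (hn : 3 ≤ n) (hs : ¬ (n = 3 ∧ C.q = 2)) (h g g' : ↥(Cfsg.GU n F C.q)) :
    innDiagHom h * semiAut g (barEquiv C) * (innDiagHom h)⁻¹ = semiAut g' (barEquiv C) ↔
      ∃ lam : F, h.1.1 * g.1.1 = lam • (g'.1.1 * h.1.1.map C.σ) := by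
  have : Nonempty (Fin n) := ⟨⟨0, by omega⟩⟩
  have e : ∀ x : ↥(Cfsg.GU n F C.q), innDiagHom x = semiAut x 1 := fun x => by rw [semiAut, map_one, mul_one]; rfl
  rw [mul_inv_eq_iff_eq_mul, e, semiAut_mul, semiAut_mul, one_mul, mul_one, semiAut, semiAut,
    (toPSUAut_injective C.card hn hs).eq_iff, mul_left_inj,
    show mapGU (1 : F ≃+* F) g = g from Subtype.ext (Units.ext (Matrix.ext fun _ _ => rfl))]
  set X := g' * mapGU (barEquiv C) h with hX
  have hXv : X.1.1 = g'.1.1 * h.1.1.map C.σ := rfl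
  rw [← hXv, eq_comm, ← inv_mul_eq_one, ← map_inv, ← map_mul, conjSU_eq_one_iff C.card hn]
  constructor
  · rintro ⟨u, -, hu⟩
    refine ⟨u, ?_⟩
    have h1 : (h * g : ↥(Cfsg.GU n F C.q)).1 = X.1 * Matrix.GeneralLinearGroup.scalar (Fin n) u := by
      rw [← hu, ← Subgroup.coe_mul, mul_inv_cancel_left]
    have h3 := congrArg Units.val h1
    rwa [Subgroup.coe_mul, Units.val_mul, Units.val_mul, scalar_val, Matrix.mul_smul, Matrix.mul_one] at h3
  · rintro ⟨lam, hlam⟩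
    have hX1 : X.1.1ᵀ * X.1.1.map C.σ = 1 := (mem_GU_iff_matrix C).1 X.2
    have h1 : (h * g : ↥(Cfsg.GU n F C.q)).1.1ᵀ * (h * g : ↥(Cfsg.GU n F C.q)).1.1.map C.σ = 1 :=
      (mem_GU_iff_matrix C).1 (h * g).2
    rw [Subgroup.coe_mul, Units.val_mul, hlam, Matrix.transpose_smul, map_smul', Matrix.smul_mul, Matrix.mul_smul,
      smul_smul, hX1] at h1
    have hl : lam * C.σ lam = 1 := smul_left_injective F (one_ne_zero (α := Matrix (Fin n) (Fin n) F))
      (h1.trans (one_smul F _).symm)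
    have hl0 : lam ≠ 0 := fun h0 => by simp [h0] at hl
    refine ⟨Units.mk0 lam hl0, ?_, ?_⟩
    · rw [mem_normOne]
      refine Units.ext ?_
      rw [Units.val_pow_eq_pow_val, Units.val_one, Units.val_mk0, pow_succ', ← C.pow, hl]
    · rw [Subgroup.coe_mul, Subgroup.coe_inv, inv_mul_eq_iff_eq_mul]
      refine Units.ext ?_
      rw [Units.val_mul, scalar_val, Matrix.mul_smul, Matrix.mul_one, Units.val_mk0, Subgroup.coe_mul, Units.val_mul]
      exact hlam

/-- A conjugating unitary matrix is rational in the frames, up to a scalar. -/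
theorem exists_rational (hn : 1 ≤ n) {g g' : GL (Fin n) F} {B B' : Matrix (Fin n) (Fin n) K}
    {Q Q' : GL (Fin n) F} {μ μ' d d' : F} (hμ : μ ≠ 0) (hd : d ≠ 0) (hd' : d' ≠ 0)
    (hg : g.1 = μ • (Q * (mapGL (barEquiv C) Q)⁻¹ : GL (Fin n) F).1)
    (hg' : g'.1 = μ' • (Q' * (mapGL (barEquiv C) Q')⁻¹ : GL (Fin n) F).1)
    (hQ : Q.1ᵀ * Q.1.map C.σ = d • B.map e) (hQ' : Q'.1ᵀ * Q'.1.map C.σ = d' • B'.map e) (hB : B.det ≠ 0)
    {h : GL (Fin n) F} (hh : h.1ᵀ * h.1.map C.σ = 1) {lam : F} (hrel : h.1 * g.1 = lam • (g'.1 * h.1.map C.σ)) :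
    ∃ (w : F) (P : GL (Fin n) K) (c : Kˣ), h.1 * Q.1 = w • (Q'.1 * P.1.map e) ∧
      P.1ᵀ * B' * P.1 = (c : K) • B ∧ e c * (d' * (w * C.σ w)) = d := by
  have : Nonempty (Fin n) := ⟨⟨0, hn⟩⟩
  obtain ⟨A, hA⟩ : ∃ A : GL (Fin n) F, A = Q'⁻¹ * h * Q := ⟨_, rfl⟩
  have hAQ : h.1 * Q.1 = Q'.1 * A.1 := by
    rw [← Units.val_mul, ← Units.val_mul]; congr 1; rw [hA]; group
  have hgQ : ∀ {g₀ Q₀ : GL (Fin n) F} {μ₀ : F}, g₀.1 = μ₀ • (Q₀ * (mapGL (barEquiv C) Q₀)⁻¹ : GL (Fin n) F).1 →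
      g₀.1 * Q₀.1.map C.σ = μ₀ • Q₀.1 := fun {g₀ Q₀ μ₀} h₀ => by
    rw [h₀, Units.val_mul, Matrix.smul_mul, Matrix.mul_assoc, ← mapGL_bar_val, Units.inv_mul, Matrix.mul_one]
  have hAA : μ • A.1 = (lam * μ') • A.1.map C.σ := by
    have h1 : Q'.1 * (μ • A.1) = Q'.1 * ((lam * μ') • A.1.map C.σ) := by
      rw [Matrix.mul_smul, ← hAQ, ← Matrix.mul_smul, ← hgQ hg, ← Matrix.mul_assoc, hrel, Matrix.smul_mul,
        Matrix.mul_assoc, ← Matrix.map_mul, hAQ, Matrix.map_mul, ← Matrix.mul_assoc, hgQ hg', Matrix.smul_mul,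
        smul_smul, Matrix.mul_smul]
    have h3 := congrArg ((Q'⁻¹ : GL (Fin n) F).1 * ·) h1
    simpa only [← Matrix.mul_assoc, Q'.inv_mul, Matrix.one_mul] using h3
  obtain ⟨a, ha⟩ : ∃ a, a = lam * μ' / μ := ⟨_, rfl⟩
  have hAa : A.1 = a • A.1.map C.σ := by
    rw [ha, div_eq_mul_inv, mul_comm, ← smul_smul, ← hAA, smul_smul, inv_mul_cancel₀ hμ, one_smul]
  have haa : a * C.σ a = 1 := by
    have h1 : A.1 = (a * C.σ a) • A.1 := by
      conv_lhs => rw [hAa, hAa, map_smul', map_bar_bar, smul_smul]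
    exact smul_left_injective F (det_ne_ne_zero (B := A.1) (by simpa using A.det.ne_zero))
      (h1.symm.trans (one_smul F _).symm)
  obtain ⟨w, hw0, hw⟩ := exists_div_conj C haa
  obtain ⟨P₀, hP₀⟩ := exists_preimage hfix (w⁻¹ • A.1) (by
    rw [map_smul', map_inv₀]
    conv_rhs => rw [hAa, smul_smul, hw, div_eq_mul_inv, ← mul_assoc, inv_mul_cancel₀ hw0, one_mul])
  have hP₀d : P₀.det ≠ 0 := fun h0 => by
    have h1 := congrArg Matrix.det hP₀
    rw [det_map_e, h0, map_zero, Matrix.det_smul] at h1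
    exact A.det.ne_zero ((mul_eq_zero.1 h1.symm).resolve_left (pow_ne_zero _ (inv_ne_zero hw0)))
  obtain ⟨P, hP⟩ : ∃ P : GL (Fin n) K, P.1 = P₀ := ⟨Matrix.GeneralLinearGroup.mkOfDetNeZero P₀ hP₀d, rfl⟩
  have hhQ : h.1 * Q.1 = w • (Q'.1 * P.1.map e) := by
    rw [hP, hP₀, Matrix.mul_smul, smul_smul, mul_inv_cancel₀ hw0, one_smul, hAQ]
  have hgram : d • B.map e = (w * C.σ w * d') • (P.1ᵀ * B' * P.1).map e := by
    calc d • B.map e = (h.1 * Q.1)ᵀ * (h.1 * Q.1).map C.σ := by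
          rw [Matrix.transpose_mul, Matrix.map_mul, ← Matrix.mul_assoc, Matrix.mul_assoc Q.1ᵀ, hh,
            Matrix.mul_one, hQ]
      _ = (w * C.σ w) • ((P.1.map e)ᵀ * (Q'.1ᵀ * Q'.1.map C.σ) * P.1.map e) := by
          rw [hhQ, Matrix.transpose_smul, map_smul', Matrix.smul_mul, Matrix.mul_smul, smul_smul,
            Matrix.transpose_mul, Matrix.map_mul, map_e_bar hfix]
          simp only [Matrix.mul_assoc]
      _ = _ := by
          rw [hQ', Matrix.mul_smul, Matrix.smul_mul, smul_smul, ← Matrix.transpose_map, ← Matrix.map_mul,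
            ← Matrix.map_mul]
  obtain ⟨i, j, hij⟩ : ∃ i j, B i j ≠ 0 := by
    by_contra h0
    push Not at h0
    exact hB (by rw [show B = 0 from Matrix.ext h0]; exact Matrix.det_zero)
  obtain ⟨c, hc⟩ : ∃ c, c = (P.1ᵀ * B' * P.1) i j / B i j := ⟨_, rfl⟩
  have hwd : w * C.σ w * d' ≠ 0 := mul_ne_zero (mul_ne_zero hw0 ((map_ne_zero C.σ).2 hw0)) hd'
  have hk : e c = d / (w * C.σ w * d') := by
    have h1 := congrFun (congrFun hgram i) j
    simp only [Matrix.smul_apply, Matrix.map_apply, smul_eq_mul] at h1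
    rw [hc, map_div₀, div_eq_div_iff ((map_ne_zero e).2 hij) hwd, h1]
    ring
  have hc0 : c ≠ 0 := fun h0 => by
    rw [h0, map_zero, eq_comm, div_eq_zero_iff] at hk
    exact hk.elim hd hwd
  refine ⟨w, P, Units.mk0 c hc0, hhQ, map_e_injective (e := e) ?_, ?_⟩
  · rw [map_smul', Units.val_mk0, hk, div_eq_mul_inv, mul_comm, ← smul_smul, hgram, smul_smul,
      inv_mul_cancel₀ hwd, one_smul]
  · rw [Units.val_mk0, hk]
    have : C.σ w ≠ 0 := (map_ne_zero C.σ).2 hw0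
    field_simp

/-- A congruence gives a conjugating unitary matrix. -/
theorem exists_unitary {g g' : GL (Fin n) F} {B B' : Matrix (Fin n) (Fin n) K}
    {Q Q' : GL (Fin n) F} {μ μ' d d' : F} (hμ' : μ' ≠ 0)
    (hg : g.1 = μ • (Q * (mapGL (barEquiv C) Q)⁻¹ : GL (Fin n) F).1)
    (hg' : g'.1 = μ' • (Q' * (mapGL (barEquiv C) Q')⁻¹ : GL (Fin n) F).1)
    (hQ : Q.1ᵀ * Q.1.map C.σ = d • B.map e) (hQ' : Q'.1ᵀ * Q'.1.map C.σ = d' • B'.map e)
    {P : GL (Fin n) K} {c : Kˣ} (hP : P.1ᵀ * B' * P.1 = (c : K) • B) {w : F} (hw : w ≠ 0)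
    (hc : e c * (d' * (w * C.σ w)) = d) :
    ∃ h : ↥(Cfsg.GU n F C.q), h.1.1 * Q.1 = w • (Q'.1 * P.1.map e) ∧
      ∃ lam : F, h.1.1 * g.1 = lam • (g'.1 * h.1.1.map C.σ) := by
  obtain ⟨h, hh⟩ : ∃ h : GL (Fin n) F, h = Q' * (Matrix.GeneralLinearGroup.scalar (Fin n) (Units.mk0 w hw) *
      Matrix.GeneralLinearGroup.map e P) * Q⁻¹ := ⟨_, rfl⟩
  have hhQ : h.1 * Q.1 = w • (Q'.1 * P.1.map e) := by
    rw [hh, ← Units.val_mul, inv_mul_cancel_right, Units.val_mul, Units.val_mul, scalar_val, Matrix.smul_mul,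
      Matrix.one_mul, Matrix.mul_smul]
    rfl
  have hmem : h ∈ Cfsg.GU n F C.q := by
    rw [mem_GU_iff_matrix]
    have h1 : Q.1ᵀ * (h.1ᵀ * h.1.map C.σ) * Q.1.map C.σ = Q.1ᵀ * 1 * Q.1.map C.σ := by
      calc Q.1ᵀ * (h.1ᵀ * h.1.map C.σ) * Q.1.map C.σ = (h.1 * Q.1)ᵀ * (h.1 * Q.1).map C.σ := by
            rw [Matrix.transpose_mul, Matrix.map_mul]; simp only [Matrix.mul_assoc]
        _ = (w * C.σ w) • ((P.1.map e)ᵀ * (Q'.1ᵀ * Q'.1.map C.σ) * P.1.map e) := by
            rw [hhQ, Matrix.transpose_smul, map_smul', Matrix.smul_mul, Matrix.mul_smul, smul_smul,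
              Matrix.transpose_mul, Matrix.map_mul, map_e_bar hfix]
            simp only [Matrix.mul_assoc]
        _ = d • B.map e := by
            rw [hQ', Matrix.mul_smul, Matrix.smul_mul, smul_smul, ← Matrix.transpose_map, ← Matrix.map_mul,
              ← Matrix.map_mul, hP, map_smul', smul_smul, ← hc]
            congr 1
            ring
        _ = _ := by rw [Matrix.mul_one, hQ]
    have hQu : IsUnit Q.1ᵀ := (Matrix.isUnit_transpose Q.1).2 Q.isUnit
    have hQb : IsUnit (Q.1.map C.σ) := (mapGL (barEquiv C) Q).isUnit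
    exact hQu.mul_left_cancel (hQb.mul_right_cancel h1)
  refine ⟨⟨h, hmem⟩, hhQ, μ * w / (μ' * C.σ w), ?_⟩
  have hb : IsUnit (Q.1.map C.σ) := (mapGL (barEquiv C) Q).isUnit
  apply hb.mul_right_cancel
  show h.1 * g.1 * Q.1.map C.σ = _
  rw [Matrix.smul_mul, Matrix.mul_assoc, Matrix.mul_assoc, ← Matrix.map_mul, hhQ, map_smul', Matrix.map_mul,
    map_e_bar hfix, hg, hg', Units.val_mul, Units.val_mul, Matrix.smul_mul, Matrix.smul_mul, Matrix.mul_smul,
    Matrix.mul_assoc Q.1, ← mapGL_bar_val, ← mapGL_bar_val, Units.inv_mul, Matrix.mul_one, hhQ, smul_smul,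
    Matrix.mul_smul, Matrix.mul_assoc Q'.1, ← Matrix.mul_assoc _ (mapGL (barEquiv C) Q').1, Units.inv_mul,
    Matrix.one_mul, smul_smul, smul_smul]
  congr 1
  have : C.σ w ≠ 0 := (map_ne_zero C.σ).2 hw
  field_simp

/-- Hermitian scales agree along a congruence. -/
theorem exists_scale {B B' : Matrix (Fin n) (Fin n) K} {Q Q' : GL (Fin n) F} {d d' : F} (hd : d ≠ 0) (hd' : d' ≠ 0)
    (hQ : Q.1ᵀ * Q.1.map C.σ = d • B.map e) (hQ' : Q'.1ᵀ * Q'.1.map C.σ = d' • B'.map e)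
    (hn : 1 ≤ n) (hB : B.det ≠ 0) {P : GL (Fin n) K} {c : Kˣ} (hP : P.1ᵀ * B' * P.1 = (c : K) • B) :
    ∃ w : F, w ≠ 0 ∧ e c * (d' * (w * C.σ w)) = d := by
  have : Nonempty (Fin n) := ⟨⟨0, hn⟩⟩
  have her : C.σ d • B.map e = d • Bᵀ.map e := by
    have := gram_hermitian (C := C) Q.1
    rwa [hQ, map_smul', map_e_bar hfix, Matrix.transpose_smul, ← Matrix.transpose_map] at this
  have her' : C.σ d' • B'.map e = d' • B'ᵀ.map e := by
    have := gram_hermitian (C := C) Q'.1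
    rwa [hQ', map_smul', map_e_bar hfix, Matrix.transpose_smul, ← Matrix.transpose_map] at this
  have h1 : (C.σ d' * e c) • B.map e = (d' * e c) • Bᵀ.map e := by
    have h0 : P.1ᵀ * B'ᵀ * P.1 = (c : K) • Bᵀ := by
      have := congrArg Matrix.transpose hP
      rwa [Matrix.transpose_mul, Matrix.transpose_mul, Matrix.transpose_transpose, Matrix.transpose_smul,
        ← Matrix.mul_assoc] at this
    have h2 := congrArg (fun M => (P.1ᵀ.map e) * M * P.1.map e) her'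
    simp only [Matrix.mul_smul, Matrix.smul_mul, ← Matrix.map_mul, hP, h0, map_smul', smul_smul] at h2
    exact h2
  have h3 : C.σ d' * d = d' * C.σ d := by
    have hne : B.map e ≠ 0 := fun h0 => hB (by
      rw [show B = 0 from map_e_injective (e := e) (h0.trans (Matrix.map_zero _ (map_zero e)).symm)]
      exact Matrix.det_zero)
    have h4 : (C.σ d' * e c * d) • B.map e = (d' * e c * C.σ d) • B.map e := by
      rw [← smul_smul (d' * e c) (C.σ d), her, smul_comm, ← h1, smul_smul, mul_comm d]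
    have h5 := smul_left_injective F hne h4
    exact mul_right_cancel₀ ((map_ne_zero e).2 c.ne_zero) (by linear_combination h5)
  have hk : C.σ (d / (d' * e c)) = d / (d' * e c) := by
    rw [map_div₀, map_mul, bar_e hfix, div_eq_div_iff (mul_ne_zero ((map_ne_zero C.σ).2 hd') ((map_ne_zero e).2 c.ne_zero))
      (mul_ne_zero hd' ((map_ne_zero e).2 c.ne_zero))]
    linear_combination (-(e c)) * h3
  obtain ⟨w, hw⟩ := CfsgLib.Forms.exists_mul_involution_eq C.ne_id C.invol hk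
  have hec : e c ≠ 0 := (map_ne_zero e).2 c.ne_zero
  refine ⟨w, fun h0 => ?_, ?_⟩
  · rw [h0, zero_mul, eq_comm, div_eq_zero_iff] at hw
    exact hw.elim hd (mul_ne_zero hd' hec)
  · rw [hw]; field_simp

theorem conj_iff_cong (hn : 3 ≤ n) (hs : ¬ (n = 3 ∧ C.q = 2)) {g g' : ↥(Cfsg.GU n F C.q)}
    {B B' : Matrix (Fin n) (Fin n) K} (hr : Rep C e g.1 B) (hr' : Rep C e g'.1 B') :
    Cfsg.IsConjUnder (Cfsg.inndiagPSU n F C.q) (semiAut g (barEquiv C)) (semiAut g' (barEquiv C)) ↔ Cong B B' := by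
  have hB := hr.nondeg_aux
  have hB' := hr'.nondeg_aux
  obtain ⟨Q, μ, d, hμ, hd, hg, hQ⟩ := hr
  obtain ⟨Q', μ', d', hμ', hd', hg', hQ'⟩ := hr'
  constructor
  · rintro ⟨x, hx, he⟩
    rw [inndiagPSU_eq] at hx
    obtain ⟨h, rfl⟩ := hx
    obtain ⟨lam, hlam⟩ := (semi_conj_iff hn hs h g g').1 he.symm
    obtain ⟨w, P, c, -, hP, -⟩ := exists_rational hfix (by omega) hμ hd hd' hg hg' hQ hQ' hB
      ((mem_GU_iff_matrix C).1 h.2) hlam
    exact cong_of_gl P c hP
  · intro hcong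
    obtain ⟨P, c, hP⟩ := hcong.exists_gl
    obtain ⟨w, hw, hc⟩ := exists_scale hfix hd hd' hQ hQ' (by omega) hB hP
    obtain ⟨h, -, hlam⟩ := exists_unitary hfix hμ' hg hg' hQ hQ' hP hw hc
    exact ⟨innDiagHom h, by rw [inndiagPSU_eq]; exact ⟨h, rfl⟩, ((semi_conj_iff hn hs h g g').2 hlam).symm⟩

omit hfix in
theorem innDiagHom_eq_one_iff (hn : 3 ≤ n) (hs : ¬ (n = 3 ∧ C.q = 2)) (h : ↥(Cfsg.GU n F C.q)) :
    innDiagHom h = 1 ↔ ∃ u : F, h.1.1 = u • 1 := by
  show toPSUAut (conjSU h) = 1 ↔ _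
  rw [map_eq_one_iff _ (toPSUAut_injective C.card hn hs), conjSU_eq_one_iff C.card hn]
  constructor
  · rintro ⟨u, -, hu⟩
    exact ⟨u, by rw [hu, scalar_val]⟩
  · rintro ⟨u, hu⟩
    have : Nonempty (Fin n) := ⟨⟨0, by omega⟩⟩
    have h1 : h.1.1ᵀ * h.1.1.map C.σ = 1 := (mem_GU_iff_matrix C).1 h.2
    rw [hu, Matrix.transpose_smul, Matrix.transpose_one, map_smul', Matrix.map_one _ (map_zero _) (map_one _),
      Matrix.smul_mul, Matrix.one_mul, smul_smul] at h1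
    have hl : u * C.σ u = 1 := smul_left_injective F (one_ne_zero (α := Matrix (Fin n) (Fin n) F))
      (h1.trans (one_smul F _).symm)
    have hu0 : u ≠ 0 := fun h0 => by simp [h0] at hl
    refine ⟨Units.mk0 u hu0, ?_, Units.ext (by rw [hu, scalar_val]; rfl)⟩
    rw [mem_normOne]
    refine Units.ext ?_
    rw [Units.val_pow_eq_pow_val, Units.val_one, Units.val_mk0, pow_succ', ← C.pow, hl]

/-- The centraliser is the projective similarity group. -/
theorem nonempty_centralizer_rep (hn : 3 ≤ n) (hs : ¬ (n = 3 ∧ C.q = 2)) {g : ↥(Cfsg.GU n F C.q)}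
    {B : Matrix (Fin n) (Fin n) K} (hr : Rep C e g.1 B) :
    Nonempty (↥(Cfsg.inndiagPSU n F C.q ⊓ Subgroup.centralizer {semiAut g (barEquiv C)}) ≃*
      Cfsg.projQuot (sim B)) := by
  have hB := hr.nondeg_aux
  have : Nonempty (Fin n) := ⟨⟨0, by omega⟩⟩
  obtain ⟨Q, μ, d, hμ, hd, hg, hQ⟩ := hr
  let G₂ : Subgroup (↥(Cfsg.GU n F C.q) × ↥(sim B)) :=
    { carrier := {p | ∃ w : F, p.1.1.1 * Q.1 = w • (Q.1 * p.2.1.1.map e)}
      one_mem' := ⟨1, by simp⟩
      mul_mem' := by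
        rintro a b ⟨w, hw⟩ ⟨w', hw'⟩
        refine ⟨w * w', ?_⟩
        show (a.1.1.1 * b.1.1.1) * Q.1 = (w * w') • (Q.1 * (a.2.1.1 * b.2.1.1).map e)
        rw [Matrix.mul_assoc, hw', Matrix.mul_smul, ← Matrix.mul_assoc, hw, Matrix.smul_mul, smul_smul,
          Matrix.map_mul, Matrix.mul_assoc, mul_comm w']
      inv_mem' := by
        rintro a ⟨w, hw⟩
        have hw0 : w ≠ 0 := fun h0 => by
          rw [h0, zero_smul] at hw
          exact (a.1.1 * Q).det.ne_zero (by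
            rw [Matrix.GeneralLinearGroup.val_det_apply, Units.val_mul, hw]; exact Matrix.det_zero)
        refine ⟨w⁻¹, ?_⟩
        show (a.1.1⁻¹ : GL (Fin n) F).1 * Q.1 = w⁻¹ • (Q.1 * ((a.2.1⁻¹ : GL (Fin n) K).1).map e)
        have h1 := congrArg (fun M => (a.1.1⁻¹ : GL (Fin n) F).1 * (M * (a.2.1⁻¹ : GL (Fin n) K).1.map e)) hw
        simp only [Matrix.smul_mul, Matrix.mul_smul, Matrix.mul_assoc, ← Matrix.map_mul, a.2.1.mul_inv,
          Matrix.map_one _ (map_zero _) (map_one _), Matrix.mul_one] at h1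
        rw [← Matrix.mul_assoc (a.1.1⁻¹ : GL (Fin n) F).1 a.1.1.1, a.1.1.inv_mul, Matrix.one_mul] at h1
        rw [h1, smul_smul, inv_mul_cancel₀ hw0, one_smul] }
  have hmem : ∀ p : G₂, innDiagHom p.1.1 ∈ Subgroup.centralizer {semiAut g (barEquiv C)} := by
    rintro ⟨⟨h, A⟩, w, hw⟩
    change h.1.1 * Q.1 = w • (Q.1 * A.1.1.map e) at hw
    obtain ⟨c, hc⟩ := mem_sim_iff.1 A.2
    have hw0 : w ≠ 0 := fun h0 => by
      rw [h0, zero_smul] at hw
      exact (h.1 * Q).det.ne_zero (by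
        rw [Matrix.GeneralLinearGroup.val_det_apply, Units.val_mul, hw]; exact Matrix.det_zero)
    have hh : h.1.1ᵀ * h.1.1.map C.σ = 1 := (mem_GU_iff_matrix C).1 h.2
    have hck : e c * (d * (w * C.σ w)) = d := by
      have h1 : d • B.map e = (e c * (d * (w * C.σ w))) • B.map e := by
        calc d • B.map e = (h.1.1 * Q.1)ᵀ * (h.1.1 * Q.1).map C.σ := by
              rw [Matrix.transpose_mul, Matrix.map_mul, ← Matrix.mul_assoc, Matrix.mul_assoc Q.1ᵀ, hh,
                Matrix.mul_one, hQ]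
          _ = (w * C.σ w) • ((A.1.1.map e)ᵀ * (Q.1ᵀ * Q.1.map C.σ) * A.1.1.map e) := by
              rw [hw, Matrix.transpose_smul, map_smul', Matrix.smul_mul, Matrix.mul_smul, smul_smul,
                Matrix.transpose_mul, Matrix.map_mul, map_e_bar hfix]
              simp only [Matrix.mul_assoc]
          _ = _ := by
              rw [hQ, Matrix.mul_smul, Matrix.smul_mul, smul_smul, ← Matrix.transpose_map, ← Matrix.map_mul,
                ← Matrix.map_mul, hc, map_smul', smul_smul]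
              congr 1
              ring
      refine (smul_left_injective F (fun h0 => hB ?_) h1).symm
      rw [show B = 0 from map_e_injective (e := e) (h0.trans (Matrix.map_zero _ (map_zero e)).symm)]
      exact Matrix.det_zero
    obtain ⟨h', hh'Q, hlam⟩ := exists_unitary hfix hμ hg hg hQ hQ hc hw0 hck
    have heq : h' = h := Subtype.ext (Units.ext (Q.isUnit.mul_right_cancel (hh'Q.trans hw.symm)))
    rw [heq] at hlam
    rw [Subgroup.mem_centralizer_singleton_iff, ← mul_inv_eq_iff_eq_mul]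
    exact (semi_conj_iff hn hs h g g).2 hlam
  let ψ : G₂ →* ↥(Cfsg.inndiagPSU n F C.q ⊓ Subgroup.centralizer {semiAut g (barEquiv C)}) :=
    ((innDiagHom).comp ((MonoidHom.fst _ _).comp G₂.subtype)).codRestrict _ fun p =>
      ⟨by rw [inndiagPSU_eq]; exact ⟨_, rfl⟩, hmem p⟩
  let χ : G₂ →* Cfsg.projQuot (sim B) := (QuotientGroup.mk' _).comp ((MonoidHom.snd _ _).comp G₂.subtype)
  have hψ : Function.Surjective ψ := by
    rintro ⟨x, hx, hxc⟩
    rw [inndiagPSU_eq] at hx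
    obtain ⟨h, rfl⟩ := hx
    replace hxc := Subgroup.mem_centralizer_singleton_iff.1 hxc
    rw [← mul_inv_eq_iff_eq_mul] at hxc
    obtain ⟨lam, hlam⟩ := (semi_conj_iff hn hs h g g).1 hxc
    obtain ⟨w, P, c, hhQ, hP, -⟩ := exists_rational hfix (by omega) hμ hd hd hg hg hQ hQ hB
      ((mem_GU_iff_matrix C).1 h.2) hlam
    exact ⟨⟨(h, ⟨P, mem_sim_iff.2 ⟨c, hP⟩⟩), w, hhQ⟩, rfl⟩
  have hχ : Function.Surjective χ := by
    intro x
    obtain ⟨A, rfl⟩ := QuotientGroup.mk_surjective x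
    obtain ⟨c, hc⟩ := mem_sim_iff.1 A.2
    obtain ⟨w, hw, hck⟩ := exists_scale hfix hd hd hQ hQ (by omega) hB hc
    obtain ⟨h, hhQ, -⟩ := exists_unitary hfix hμ hg hg hQ hQ hc hw hck
    exact ⟨⟨(h, A), w, hhQ⟩, rfl⟩
  have hker : ψ.ker = χ.ker := by
    ext ⟨⟨h, A⟩, w, hw⟩
    change h.1.1 * Q.1 = w • (Q.1 * A.1.1.map e) at hw
    have hw0 : w ≠ 0 := fun h0 => by
      rw [h0, zero_smul] at hw
      exact (h.1 * Q).det.ne_zero (by
        rw [Matrix.GeneralLinearGroup.val_det_apply, Units.val_mul, hw]; exact Matrix.det_zero)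
    rw [MonoidHom.mem_ker, MonoidHom.mem_ker, Subtype.ext_iff]
    show innDiagHom h = 1 ↔ (QuotientGroup.mk A : Cfsg.projQuot (sim B)) = 1
    rw [innDiagHom_eq_one_iff hn hs, QuotientGroup.eq_one_iff, Subgroup.mem_subgroupOf]
    constructor
    · rintro ⟨u, hu⟩
      have h1 : A.1.1.map e = (u / w) • 1 := by
        refine Q.isUnit.mul_left_cancel ?_
        rw [hu, Matrix.smul_mul, Matrix.one_mul] at hw
        rw [Matrix.mul_smul, Matrix.mul_one, div_eq_mul_inv, mul_comm, ← smul_smul, hw, smul_smul,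
          inv_mul_cancel₀ hw0, one_smul]
      obtain ⟨o⟩ := (inferInstance : Nonempty (Fin n))
      have hdiag : A.1.1 = A.1.1 o o • 1 := by
        refine map_e_injective (e := e) ?_
        rw [map_smul', Matrix.map_one _ (map_zero _) (map_one _)]
        have h2 := congrFun (congrFun h1 o) o
        simp only [Matrix.map_apply, Matrix.smul_apply, Matrix.one_apply_eq, smul_eq_mul, mul_one] at h2
        rw [h2, h1]
      have ha0 : A.1.1 o o ≠ 0 := fun h0 => by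
        rw [h0, zero_smul] at hdiag
        exact A.1.det.ne_zero (by rw [Matrix.GeneralLinearGroup.val_det_apply, hdiag]; exact Matrix.det_zero)
      exact ⟨Units.mk0 _ ha0, Units.ext ((scalar_val_gen _).trans hdiag.symm)⟩
    · rintro ⟨u, hu⟩
      have hA : A.1.1 = (u : K) • 1 := (congrArg Units.val hu).symm.trans (scalar_val_gen u)
      refine ⟨w * e u, Q.isUnit.mul_right_cancel ?_⟩
      rw [hw, hA, map_smul', Matrix.map_one _ (map_zero _) (map_one _), Matrix.mul_smul, Matrix.mul_one,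
        smul_smul, Matrix.smul_mul, Matrix.one_mul]
  exact ⟨(QuotientGroup.quotientKerEquivOfSurjective ψ hψ).symm.trans
    ((QuotientGroup.quotientMulEquivOfEq hker).trans (QuotientGroup.quotientKerEquivOfSurjective χ hχ))⟩

/-- Every form is attached to an involution. -/
theorem exists_rep_real (hn : 3 ≤ n) (hs : ¬ (n = 3 ∧ C.q = 2)) {B : Matrix (Fin n) (Fin n) K} (hB : IsForm B) :
    ∃ g : ↥(Cfsg.GU n F C.q), orderOf (semiAut g (barEquiv C)) = 2 ∧ Rep C e g.1 B := by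
  have : Nonempty (Fin n) := ⟨⟨0, by omega⟩⟩
  obtain ⟨ε, hεε, hε⟩ : ∃ ε : F, ε * ε = 1 ∧ Bᵀ.map e = ε • B.map e := by
    rcases hB.symm with h | h
    · exact ⟨1, one_mul 1, by rw [h, one_smul]⟩
    · exact ⟨-1, by ring, by rw [h, neg_one_smul]; ext i j; simp⟩
  have hεb : C.σ ε = ε := by rcases mul_self_eq_one_iff.1 hεε with h | h <;> simp [h]
  obtain ⟨d, hd, hdb⟩ := exists_fixed_scale C hεε
  have hdet : (d • B.map e).det ≠ 0 := by
    rw [Matrix.det_smul, det_map_e]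
    exact mul_ne_zero (pow_ne_zero _ hd) ((map_ne_zero e).2 hB.det)
  have hHT : (d • B.map e)ᵀ = (d • B.map e).map C.σ := by
    rw [Matrix.transpose_smul, ← Matrix.transpose_map, hε, map_smul', map_e_bar hfix, hdb, smul_smul, mul_comm]
  obtain ⟨G, hG⟩ : ∃ G : GL (Fin n) F, G.1 = d • B.map e :=
    ⟨Matrix.GeneralLinearGroup.mkOfDetNeZero _ hdet, rfl⟩
  obtain ⟨h₀, hh₀⟩ := CfsgLib.AutPSL.exists_eq_mul_map_transpose (barEquiv_ne_one C) C.invol (G := G)
    (fun i j => by rw [hG]; exact (congrFun (congrFun hHT i) j).symm)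
  replace hh₀ : G.1 = h₀.1 * (h₀.1.map C.σ)ᵀ := hh₀
  obtain ⟨Q, hQv⟩ : ∃ Q : GL (Fin n) F, Q.1 = h₀.1ᵀ :=
    ⟨Matrix.GeneralLinearGroup.mkOfDetNeZero h₀.1ᵀ (by rw [Matrix.det_transpose]; exact h₀.det.ne_zero), rfl⟩
  have hQ : Q.1ᵀ * Q.1.map C.σ = d • B.map e := by
    rw [← hG, hh₀, hQv, Matrix.transpose_transpose, Matrix.transpose_map]
  obtain ⟨l, hl⟩ := CfsgLib.Forms.exists_mul_involution_eq C.ne_id C.invol hεb
  have hl0 : l ≠ 0 := fun h0 => by
    rw [h0, zero_mul] at hl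
    rw [← hl, mul_zero] at hεε
    exact zero_ne_one hεε
  obtain ⟨g, hg⟩ : ∃ g : GL (Fin n) F,
      g = Matrix.GeneralLinearGroup.scalar (Fin n) (Units.mk0 l hl0) * (Q * (mapGL (barEquiv C) Q)⁻¹) := ⟨_, rfl⟩
  have hgv : g.1 = l • (Q * (mapGL (barEquiv C) Q)⁻¹ : GL (Fin n) F).1 := by
    rw [hg, Units.val_mul, scalar_val, Matrix.smul_mul, Matrix.one_mul, Units.val_mk0]
  have hgQ : g.1 * Q.1.map C.σ = l • Q.1 := by
    rw [hgv, Units.val_mul, Matrix.smul_mul, Matrix.mul_assoc, ← mapGL_bar_val, Units.inv_mul, Matrix.mul_one]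
  have hgQ' : g.1.map C.σ * Q.1 = C.σ l • Q.1.map C.σ := by
    have := congrArg (fun A : Matrix (Fin n) (Fin n) F => A.map C.σ) hgQ
    rwa [Matrix.map_mul, map_bar_bar, map_smul'] at this
  have hmem : g ∈ Cfsg.GU n F C.q := by
    rw [mem_GU_iff_matrix]
    have hQu : IsUnit (Q.1.map C.σ)ᵀ := (Matrix.isUnit_transpose _).2 (mapGL (barEquiv C) Q).isUnit
    refine hQu.mul_left_cancel (Q.isUnit.mul_right_cancel ?_)
    calc (Q.1.map C.σ)ᵀ * (g.1ᵀ * g.1.map C.σ) * Q.1 = (g.1 * Q.1.map C.σ)ᵀ * (g.1.map C.σ * Q.1) := by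
          rw [Matrix.transpose_mul]; simp only [Matrix.mul_assoc]
      _ = ε • (Q.1ᵀ * Q.1.map C.σ) := by
          rw [hgQ, hgQ', Matrix.transpose_smul, Matrix.smul_mul, Matrix.mul_smul, smul_smul, hl]
      _ = (Q.1ᵀ * Q.1.map C.σ)ᵀ := by
          rw [hQ, Matrix.transpose_smul, ← Matrix.transpose_map, hε, smul_comm]
      _ = _ := by rw [Matrix.transpose_mul, Matrix.transpose_transpose, Matrix.mul_one]
  refine ⟨⟨g, hmem⟩, orderOf_eq_prime ?_ ?_, Q, l, d, hl0, hd, hgv, hQ⟩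
  · rw [pow_two, semiAut_mul, show barEquiv C * barEquiv C = 1 from RingEquiv.ext C.invol, semiAut, map_one,
      mul_one, map_eq_one_iff _ (toPSUAut_injective C.card hn hs), conjSU_eq_one_iff C.card hn]
    have hgg : g.1 * g.1.map C.σ = ε • 1 := by
      refine Q.isUnit.mul_right_cancel ?_
      rw [Matrix.mul_assoc, hgQ', Matrix.mul_smul, hgQ, smul_smul, mul_comm, hl, Matrix.smul_mul, Matrix.one_mul]
    have hε0 : ε ≠ 0 := fun h0 => by simp [h0] at hεε
    refine ⟨Units.mk0 ε hε0, ?_, Units.ext ?_⟩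
    · rw [mem_normOne]
      refine Units.ext ?_
      rw [Units.val_pow_eq_pow_val, Units.val_one, Units.val_mk0, pow_succ', ← C.pow, hεb, hεε]
    · rw [scalar_val, Subgroup.coe_mul, Units.val_mul, Units.val_mk0]
      exact hgg
  · intro h1
    have h1' : semiAut ⟨g, hmem⟩ (barEquiv C) = semiAut 1 1 := by
      rw [h1, semiAut, map_one, map_one, mul_one, map_one]
    exact barEquiv_ne_one C (semiAut_unique C.card hn hs h1').1

omit hfix in
theorem isGraphAutClassPSU_cases (hn : 3 ≤ n) (hs : ¬ (n = 3 ∧ C.q = 2)) {γ : MulAut (Cfsg.PSU n F C.q)}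
    (hγ : Cfsg.IsGraphAutClassPSU γ) (hγ2 : orderOf γ = 2) :
    ∃ g : ↥(Cfsg.GU n F C.q), γ = semiAut g (barEquiv C) := by
  have : Fact (Nat.Prime 2) := ⟨Nat.prime_two⟩
  obtain ⟨-, δ, φ, σ, heven, hδ, hφ, rfl⟩ := hγ
  obtain ⟨g, rfl⟩ := (isInnerDiagonalAutPSU_iff δ).1 hδ
  rw [(isFieldAutPSUOf_iff σ φ).1 hφ, ← semiAut_eq_mul] at hγ2 ⊢
  have hσ1 : σ ≠ 1 := fun h => by simp [h] at heven
  have hσ := orderOf_field_part C.card hn hs hγ2 hσ1
  refine ⟨g, ?_⟩
  rw [CfsgLib.AutPSL.eq_of_sq_eq_one hσ1 (barEquiv_ne_one C) (hσ ▸ pow_orderOf_eq_one σ)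
    (orderOf_barEquiv C ▸ pow_orderOf_eq_one (barEquiv C))]

/-- The involutory graph automorphisms of `PSU_n(q)` as forms over `F₀`. -/
noncomputable def psuModel (hn : 3 ≤ n) (hs : ¬ (n = 3 ∧ C.q = 2)) :
    Model (Cfsg.inndiagPSU n F C.q) (fun γ => Cfsg.IsGraphAutClassPSU γ) K n where
  Att γ B := ∃ g, γ = semiAut g (barEquiv C) ∧ Rep C e g.1 B
  exists_att γ hγ hγ2 := by
    obtain ⟨g, rfl⟩ := isGraphAutClassPSU_cases hn hs hγ hγ2
    obtain ⟨B, hB, hr⟩ := exists_rep hfix hn hs g (hγ2 ▸ pow_orderOf_eq_one _)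
    exact ⟨B, hB, g, rfl, hr⟩
  exists_real B hB := by
    obtain ⟨g, hg, hr⟩ := exists_rep_real hfix hn hs hB
    exact ⟨_, ⟨hn, _, _, barEquiv C, by rw [orderOf_barEquiv]; exact even_two, (isInnerDiagonalAutPSU_iff _).2 ⟨g, rfl⟩,
      (isFieldAutPSUOf_iff _ _).2 rfl, semiAut_eq_mul g _⟩, hg, g, rfl, hr⟩
  conj_iff γ γ' B B' := by
    rintro ⟨g, rfl, hr⟩ ⟨g', rfl, hr'⟩
    exact conj_iff_cong hfix hn hs hr hr'
  cent γ B := by
    rintro ⟨g, rfl, hr⟩
    exact nonempty_centralizer_rep hfix hn hs hr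

end CfsgLib.GraphClass
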