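import Cfsg.Agent.GraphClass.ModelPSL

/-!
# Splitting of the classes of graph involutions of `PSL_n(F)` under inner automorphisms
-/

set_option autoImplicit false
set_option linter.unusedSectionVars false

namespace CfsgLib.GraphClass

open Matrix CfsgLib.AutPSL

variable {F : Type*} [Field F] [Fintype F] {n : ℕ}

/-- The determinants of similarities. -/
noncomputable def detSim (B : Matrix (Fin n) (Fin n) F) : Subgroup Fˣ :=
  (sim B).map Matrix.GeneralLinearGroup.det

theorem mem_detSim {B : Matrix (Fin n) (Fin n) F} {x : Fˣ} :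
    x ∈ detSim B ↔ ∃ h : GL (Fin n) F, (∃ c : Fˣ, h.1ᵀ * B * h.1 = (c : F) • B) ∧ h.1.det = x := by
  refine exists_congr fun h => and_congr mem_sim_iff ?_
  rw [Units.ext_iff, Matrix.GeneralLinearGroup.val_det_apply]

theorem det_surjective (hn : 1 ≤ n) : Function.Surjective (Matrix.GeneralLinearGroup.det (n := Fin n) (R := F)) := by
  intro u
  let o : Fin n := ⟨0, hn⟩
  refine ⟨Matrix.GeneralLinearGroup.mkOfDetNeZero (Matrix.diagonal fun i => if i = o then (u : F) else 1)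
    (by simp [Matrix.det_diagonal]), Units.ext ?_⟩
  show (Matrix.diagonal fun i => if i = o then (u : F) else 1).det = u
  simp [Matrix.det_diagonal]

theorem splitClassCount_graphAut (hn : 3 ≤ n) (g : GL (Fin n) F) :
    Cfsg.splitClassCount (Cfsg.inndiagPSL n F) (Cfsg.Inn (Matrix.ProjectiveSpecialLinearGroup (Fin n) F))
      (graphAut g) = (detSim (g⁻¹ : GL (Fin n) F).1).index := by
  set S := (Matrix.SpecialLinearGroup.toGL (n := Fin n) (R := F)).range with hS
  have hSker : S = (Matrix.GeneralLinearGroup.det (n := Fin n) (R := F)).ker := by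
    ext x
    constructor
    · rintro ⟨s, rfl⟩
      exact Units.ext s.2
    · intro hx
      exact ⟨⟨x.1, congrArg Units.val hx⟩, Units.ext rfl⟩
  have hSn : S.Normal := hSker ▸ MonoidHom.normal_ker _
  have hI : Cfsg.Inn (Matrix.ProjectiveSpecialLinearGroup (Fin n) F) = S.map innDiagHom := by
    rw [inn_eq_range, hS, MonoidHom.map_range]
  have hT : (Subgroup.centralizer ({graphAut g} : Set _)).comap (innDiagHom (F := F) (n := n)) =
      sim (g⁻¹ : GL (Fin n) F).1 := by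
    ext h
    exact commute_graphAut_iff hn h g
  rw [inndiagPSL_eq, hI, splitClassCount_eq_index _ S, hT,
    index_eq_map_index _ (det_surjective (by omega)) _ (hSker ▸ le_sup_left), Subgroup.map_sup,
    (Subgroup.map_eq_bot_iff S).2 hSker.le, bot_sup_eq, detSim]

theorem mem_range_pow {x : Fˣ} {k : ℕ} : x ∈ (powMonoidHom k : Fˣ →* Fˣ).range ↔ ∃ d : Fˣ, (d : F) ^ k = x :=
  exists_congr fun d => by simp [Units.ext_iff]

theorem detSim_alt {B : Matrix (Fin n) (Fin n) F} (hd : B.det ≠ 0) (ha : ∀ x, bil B x x = 0) {m : ℕ}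
    (hm : n = 2 * m) : detSim B = (powMonoidHom m : Fˣ →* Fˣ).range := by
  ext x
  rw [mem_detSim, mem_range_pow]
  constructor
  · rintro ⟨h, ⟨c, hc⟩, hx⟩
    exact ⟨c, by rw [← hx, det_of_alt hd ha (by simpa using hm) hc]⟩
  · rintro ⟨c, hc⟩
    obtain ⟨h, hh⟩ := exists_sim_alt hd ha c
    exact ⟨h, ⟨c, hh⟩, by rw [det_of_alt hd ha (by simpa using hm) hh, hc]⟩

theorem detSim_symm (h2 : (2 : F) ≠ 0) {B : Matrix (Fin n) (Fin n) F} (hs : Bᵀ = B) (hd : B.det ≠ 0) {m : ℕ}
    (hn : 1 ≤ n) (hm : n = 2 * m) :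
    detSim B = Subgroup.zpowers (-1 : Fˣ) ⊔ (powMonoidHom m : Fˣ →* Fˣ).range := by
  have : Nonempty (Fin n) := ⟨⟨0, hn⟩⟩
  have hneg : (-1 : Fˣ) ∈ detSim B := by
    obtain ⟨h, h1, h3⟩ := exists_iso_det_neg h2 hs hd
    exact mem_detSim.2 ⟨h, ⟨1, by rw [h1, Units.val_one, one_smul]⟩, by simp [h3]⟩
  refine le_antisymm ?_ (sup_le (Subgroup.zpowers_le.2 hneg) ?_)
  · intro x hx
    obtain ⟨h, ⟨c, hc⟩, hx⟩ := mem_detSim.1 hx
    rcases det_of_even hd (by simpa using hm) hc with h1 | h1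
    · exact Subgroup.mem_sup_right (mem_range_pow.2 ⟨c, by rw [← hx, h1]⟩)
    · rw [show x = -1 * c ^ m from Units.ext (by simp [← hx, h1])]
      exact mul_mem (Subgroup.mem_sup_left (Subgroup.mem_zpowers _))
        (Subgroup.mem_sup_right ⟨c, rfl⟩)
  · rintro _ ⟨c, rfl⟩
    obtain ⟨h, hh⟩ := exists_sim_symm h2 hs hd (by simpa using hm) c
    rcases det_of_even hd (by simpa using hm) hh with h1 | h1
    · exact mem_detSim.2 ⟨h, ⟨c, hh⟩, by simp [h1]⟩
    · have h3 : -(c ^ m) ∈ detSim B := mem_detSim.2 ⟨h, ⟨c, hh⟩, by simp [h1]⟩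
      have := mul_mem hneg h3
      simpa using this

theorem detSim_pow {B : Matrix (Fin n) (Fin n) F}
    (h : ∀ (h : GL (Fin n) F) (c : Fˣ), h.1ᵀ * B * h.1 = (c : F) • B →
      ∃ d : F, d * d = c ∧ h.1.det = d ^ Fintype.card (Fin n)) :
    detSim B = (powMonoidHom n : Fˣ →* Fˣ).range := by
  ext x
  rw [mem_detSim, mem_range_pow]
  constructor
  · rintro ⟨g, ⟨c, hc⟩, hx⟩
    obtain ⟨d, hd, hdet⟩ := h g c hc
    exact ⟨Units.mk0 d fun h0 => c.ne_zero (by rw [← hd, h0, zero_mul]), by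
      rw [← hx, hdet, Fintype.card_fin]; rfl⟩
  · rintro ⟨d, hd⟩
    refine ⟨Matrix.GeneralLinearGroup.scalar (Fin n) d, ⟨d * d, ?_⟩, ?_⟩
    · rw [scalar_val, Matrix.transpose_smul, Matrix.transpose_one, Matrix.smul_mul, Matrix.one_mul,
        Matrix.mul_smul, Matrix.mul_one, smul_smul, Units.val_mul]
    · rw [scalar_val, Matrix.det_smul, Matrix.det_one, mul_one, Fintype.card_fin, hd]

end CfsgLib.GraphClass
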