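import Cfsg.Agent.GraphClass.ModelPSU
import Cfsg.Agent.GraphClass.SplitPSL

/-!
# Splitting of the classes of graph involutions of `PSU_n(q)` under inner automorphisms
-/

set_option autoImplicit false
set_option linter.unusedSectionVars false

namespace CfsgLib.GraphClass

open Matrix CfsgLib.RepBounds.Unit CfsgLib.AutPSU
open CfsgLib.AutPSL (mapGL)

variable {F : Type*} [Field F] [Fintype F] {n : ℕ} {C : ConjField F}
variable {K : Type*} [Field K] {e : K →+* F}

theorem normOne_iff {u : Fˣ} : u ∈ normOne F C.q ↔ (u : F) * C.σ u = 1 := by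
  rw [mem_normOne, Units.ext_iff, Units.val_pow_eq_pow_val, Units.val_one, pow_succ', C.pow]

theorem mem_range_normOne_pow {x : normOne F C.q} {k : ℕ} :
    x ∈ (powMonoidHom k : normOne F C.q →* normOne F C.q).range ↔
      ∃ u : F, u * C.σ u = 1 ∧ u ^ k = ((x : Fˣ) : F) := by
  constructor
  · rintro ⟨u, rfl⟩
    exact ⟨((u : Fˣ) : F), normOne_iff.1 u.2, by simp⟩
  · rintro ⟨u, hu, hk⟩
    have hu0 : u ≠ 0 := fun h0 => by simp [h0] at hu
    exact ⟨⟨Units.mk0 u hu0, normOne_iff.2 hu⟩, Subtype.ext (Units.ext (by simpa using hk))⟩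

variable (hfix : ∀ x, C.σ x = x ↔ x ∈ Set.range e)
include hfix

/-- The determinants of the centraliser. -/
theorem exists_detImage (hn : 3 ≤ n) (hs : ¬ (n = 3 ∧ C.q = 2)) {g : ↥(Cfsg.GU n F C.q)}
    {B : Matrix (Fin n) (Fin n) K} (hr : Rep C e g.1 B) :
    ∃ D : Subgroup (normOne F C.q),
      Cfsg.splitClassCount (Cfsg.inndiagPSU n F C.q) (Cfsg.Inn (Cfsg.PSU n F C.q))
          (semiAut g (barEquiv C)) = D.index ∧
      ∀ x : normOne F C.q, x ∈ D ↔ ∃ (w : F) (P : GL (Fin n) K) (c : Kˣ),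
        P.1ᵀ * B * P.1 = (c : K) • B ∧ e c * (w * C.σ w) = 1 ∧ ((x : Fˣ) : F) = w ^ n * e P.1.det := by
  have hB := hr.nondeg_aux
  obtain ⟨Q, μ, d, hμ, hd, hg, hQ⟩ := hr
  set S := (suToGU (F := F) (n := n) (q := C.q)).range with hS
  have hSn : S.Normal := by rw [hS, ← detGU_ker C.card]; exact MonoidHom.normal_ker _
  refine ⟨((Subgroup.centralizer ({semiAut g (barEquiv C)} : Set _)).comap innDiagHom).map (detGU C.card),
    ?_, fun x => ?_⟩
  · rw [inndiagPSU_eq, inn_eq_map, CfsgLib.AutPSL.splitClassCount_eq_index _ S,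
      CfsgLib.AutPSL.index_eq_map_index _ (detGU_surjective C.card (by omega)) _
        ((detGU_ker C.card).le.trans le_sup_left),
      Subgroup.map_sup, (Subgroup.map_eq_bot_iff S).2 (detGU_ker C.card).ge, bot_sup_eq]
  · constructor
    · rintro ⟨h, hh, rfl⟩
      replace hh := Subgroup.mem_centralizer_singleton_iff.1 hh
      rw [← mul_inv_eq_iff_eq_mul] at hh
      obtain ⟨lam, hlam⟩ := (semi_conj_iff hn hs h g g).1 hh
      obtain ⟨w, P, c, hhQ, hP, hc⟩ := exists_rational hfix (by omega) hμ hd hd hg hg hQ hQ hB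
        ((mem_GU_iff_matrix C).1 h.2) hlam
      refine ⟨w, P, c, hP, mul_left_cancel₀ hd (by linear_combination hc), ?_⟩
      have h1 := congrArg Matrix.det hhQ
      rw [Matrix.det_mul, Matrix.det_smul, Matrix.det_mul, Fintype.card_fin, det_map_e] at h1
      rw [detGU_val]
      exact mul_right_cancel₀ Q.det.ne_zero (h1.trans (by rw [Matrix.GeneralLinearGroup.val_det_apply]; ring))
    · rintro ⟨w, P, c, hP, hc, hx⟩
      have hw : w ≠ 0 := fun h0 => by simp [h0] at hc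
      obtain ⟨h, hhQ, hlam⟩ := exists_unitary hfix hμ hg hg hQ hQ hP hw (by linear_combination d * hc)
      refine ⟨h, Subgroup.mem_centralizer_singleton_iff.2 (mul_inv_eq_iff_eq_mul.1
        ((semi_conj_iff hn hs h g g).2 hlam)), Subtype.ext (Units.ext ?_)⟩
      rw [detGU_val, hx]
      have h1 := congrArg Matrix.det hhQ
      rw [Matrix.det_mul, Matrix.det_smul, Matrix.det_mul, Fintype.card_fin, det_map_e] at h1
      exact mul_right_cancel₀ (by simpa using Q.det.ne_zero) (h1.trans (by ring))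

section

variable {D : Subgroup (normOne F C.q)} {B : Matrix (Fin n) (Fin n) K}
  (hD : ∀ x : normOne F C.q, x ∈ D ↔ ∃ (w : F) (P : GL (Fin n) K) (c : Kˣ),
    P.1ᵀ * B * P.1 = (c : K) • B ∧ e c * (w * C.σ w) = 1 ∧ ((x : Fˣ) : F) = w ^ n * e P.1.det)
include hD

theorem norm_w_sq {w : F} {c : Kˣ} (hc : e c * (w * C.σ w) = 1) :
    (w ^ 2 * e c) * C.σ (w ^ 2 * e c) = 1 := by
  rw [map_mul, map_pow, bar_e hfix]
  linear_combination (e c * (w * C.σ w) + 1) * hc

omit hD in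
theorem exists_w (u : F) (hu : u * C.σ u = 1) :
    ∃ (w : F) (c : Kˣ), e c * (w * C.σ w) = 1 ∧ w ^ 2 * e c = u := by
  obtain ⟨w, hw0, hw⟩ := exists_div_conj C hu
  have hwb : C.σ w ≠ 0 := (map_ne_zero C.σ).2 hw0
  obtain ⟨c, hc⟩ := (hfix ((w * C.σ w)⁻¹)).1 (by rw [map_inv₀, map_mul, C.invol, mul_comm])
  have hc0 : c ≠ 0 := fun h0 => by
    rw [h0, map_zero, eq_comm, inv_eq_zero, mul_eq_zero] at hc
    exact hc.elim hw0 hwb
  refine ⟨w, Units.mk0 c hc0, by rw [Units.val_mk0, hc, inv_mul_cancel₀ (mul_ne_zero hw0 hwb)], ?_⟩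
  rw [Units.val_mk0, hc, hw]
  field_simp

theorem detImage_alt (hd : B.det ≠ 0) (ha : ∀ x, bil B x x = 0) {m : ℕ} (hm : n = 2 * m) :
    D = (powMonoidHom m : normOne F C.q →* normOne F C.q).range := by
  ext x
  rw [hD, mem_range_normOne_pow]
  constructor
  · rintro ⟨w, P, c, hP, hc, hx⟩
    refine ⟨w ^ 2 * e c, norm_w_sq hfix hD hc, ?_⟩
    rw [hx, det_of_alt hd ha (by simpa using hm) hP, map_pow, mul_pow, ← pow_mul, hm]
  · rintro ⟨u, hu, hk⟩
    obtain ⟨w, c, hc, hwu⟩ := exists_w hfix u hu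
    obtain ⟨P, hP⟩ := exists_sim_alt hd ha c
    exact ⟨w, P, c, hP, hc, by
      rw [← hk, det_of_alt hd ha (by simpa using hm) hP, map_pow, hm, pow_mul, ← mul_pow, hwu]⟩

theorem detImage_symm [Finite K] (h2 : (2 : K) ≠ 0) (hs : Bᵀ = B) (hd : B.det ≠ 0) {m : ℕ} (hn : 1 ≤ n)
    (hm : n = 2 * m) {ε : normOne F C.q} (hε : ((ε : Fˣ) : F) = -1) :
    D = Subgroup.zpowers ε ⊔ (powMonoidHom m : normOne F C.q →* normOne F C.q).range := by
  have : Nonempty (Fin n) := ⟨⟨0, hn⟩⟩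
  have hεD : ε ∈ D := by
    obtain ⟨P, h1, h3⟩ := exists_iso_det_neg h2 hs hd
    exact (hD ε).2 ⟨1, P, 1, by rw [h1, Units.val_one, one_smul], by simp, by rw [hε, h3]; simp⟩
  refine le_antisymm ?_ (sup_le (Subgroup.zpowers_le.2 hεD) ?_)
  · intro x hx
    obtain ⟨w, P, c, hP, hc, hxv⟩ := (hD x).1 hx
    have hu := norm_w_sq hfix hD hc
    rcases det_of_even hd (by simpa using hm) hP with h1 | h1
    · exact Subgroup.mem_sup_right (mem_range_normOne_pow.2
        ⟨_, hu, by rw [hxv, h1, map_pow, mul_pow, ← pow_mul, hm]⟩)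
    · rw [show x = ε * (ε * x) by
        rw [← mul_assoc, show ε * ε = 1 from Subtype.ext (Units.ext (by simp [hε])), one_mul]]
      refine mul_mem (Subgroup.mem_sup_left (Subgroup.mem_zpowers _)) (Subgroup.mem_sup_right
        (mem_range_normOne_pow.2 ⟨_, hu, ?_⟩))
      rw [Subgroup.coe_mul, Units.val_mul, hε, hxv, h1, map_neg, map_pow, mul_pow, ← pow_mul, hm]
      ring
  · intro x hx
    obtain ⟨u, hu, hk⟩ := mem_range_normOne_pow.1 hx
    obtain ⟨w, c, hc, hwu⟩ := exists_w hfix u hu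
    obtain ⟨P, hP⟩ := exists_sim_symm h2 hs hd (by simpa using hm) c
    rcases det_of_even hd (by simpa using hm) hP with h1 | h1
    · exact (hD x).2 ⟨w, P, c, hP, hc, by rw [← hk, h1, map_pow, hm, pow_mul, ← mul_pow, hwu]⟩
    · have h3 : ε * x ∈ D := (hD _).2 ⟨w, P, c, hP, hc, by
        rw [Subgroup.coe_mul, Units.val_mul, hε, ← hk, h1, map_neg, map_pow, hm, pow_mul, mul_neg, ← mul_pow, hwu,
          neg_one_mul]⟩
      have h4 := mul_mem hεD h3
      rwa [← mul_assoc, show ε * ε = 1 from Subtype.ext (Units.ext (by simp [hε])), one_mul] at h4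

theorem detImage_pow (h : ∀ (P : GL (Fin n) K) (c : Kˣ), P.1ᵀ * B * P.1 = (c : K) • B →
      ∃ d : K, d * d = c ∧ P.1.det = d ^ Fintype.card (Fin n)) :
    D = (powMonoidHom n : normOne F C.q →* normOne F C.q).range := by
  ext x
  rw [hD, mem_range_normOne_pow]
  constructor
  · rintro ⟨w, P, c, hP, hc, hx⟩
    obtain ⟨d, hd, hdet⟩ := h P c hP
    refine ⟨w * e d, ?_, by rw [hx, hdet, map_pow, Fintype.card_fin, mul_pow]⟩
    rw [map_mul, bar_e hfix]
    rw [← hd, map_mul] at hc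
    linear_combination hc
  · rintro ⟨u, hu, hk⟩
    exact ⟨u, 1, 1, by simp, by simp [hu], by simp [hk]⟩

end

end CfsgLib.GraphClass
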