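import Cfsg.Agent.GraphClass.Congruence
import Cfsg.Agent.Forms.PlusType
import Cfsg.Agent.Forms.SymplecticOrder

/-!
# The congruence classes of non-degenerate symmetric and alternating matrices over a finite field

In odd characteristic a symmetric matrix is determined by the square class of its determinant, an
alternating one by its size. In characteristic two a symmetric matrix with a non-zero diagonal is
determined by its size.
-/

set_option autoImplicit false
set_option linter.unusedSectionVars false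

namespace CfsgLib.GraphClass

open Matrix CfsgLib.Forms

variable {K : Type*} [Field K]
variable {ι ι' : Type} [Fintype ι] [DecidableEq ι] [Fintype ι'] [DecidableEq ι']

theorem bil_toBilin (B : Matrix ι ι K) (x y : ι → K) : Matrix.toBilin' B x y = bil B x y :=
  Matrix.toBilin'_apply' B x y

theorem bil_transpose (B : Matrix ι ι K) (x y : ι → K) : bil Bᵀ x y = bil B y x := by
  rw [bil, bil, Matrix.mulVec_transpose, dotProduct_comm, ← Matrix.dotProduct_mulVec]

theorem bil_comm {B : Matrix ι ι K} (hs : Bᵀ = B) (x y : ι → K) : bil B y x = bil B x y := by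
  conv_lhs => rw [← hs, bil_transpose]

theorem bil_self_of_skew {B : Matrix ι ι K} (h2 : (2 : K) ≠ 0) (hs : Bᵀ = -B) (x : ι → K) :
    bil B x x = 0 := by
  have h := bil_transpose B x x
  rw [hs, bil, Matrix.neg_mulVec, dotProduct_neg, ← bil] at h
  have h3 : (2 : K) * bil B x x = 0 := by linear_combination -h
  exact (mul_eq_zero.1 h3).resolve_left h2

/-- A map preserving the forms is a congruence. -/
theorem cong_of_linearMap {B : Matrix ι ι K} {B' : Matrix ι' ι' K} (hB : B.det ≠ 0)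
    (hcard : Fintype.card ι = Fintype.card ι') (L : (ι → K) →ₗ[K] (ι' → K))
    (h : ∀ x y, bil B' (L x) (L y) = bil B x y) : Cong B B' := by
  have inj : Function.Injective L := by
    rw [injective_iff_map_eq_zero]
    intro x hx
    apply Matrix.eq_zero_of_vecMul_eq_zero hB
    funext i
    have h1 := h x (Pi.single i 1)
    rw [hx, bil, zero_dotProduct, bil, Matrix.dotProduct_mulVec] at h1
    simpa using h1.symm
  exact ⟨L.linearEquivOfInjective inj (by simp [hcard]), 1, fun x y => by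
    rw [Units.val_one, one_mul]; exact h x y⟩

/-- A non-degenerate alternating form is the symplectic one. -/
theorem exists_equiv_sympForm {B : Matrix ι ι K} (hd : B.det ≠ 0) (ha : ∀ x, bil B x x = 0) :
    ∃ m, Fintype.card ι = 2 * m ∧ ∃ e : (ι → K) ≃ₗ[K] (Fin m ⊕ Fin m → K),
      ∀ x y, Cfsg.sympForm m K (e x) (e y) = bil B x y := by
  have hA : (Matrix.toBilin' B).IsAlt := fun x => by rw [bil_toBilin]; exact ha x
  obtain ⟨m, b, h1, h2, h3⟩ := exists_symplectic_basis_nondeg (Matrix.toBilin' B) hA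
    (Matrix.Nondegenerate.toBilin' (Matrix.nondegenerate_of_det_ne_zero hd))
  have hc := Module.finrank_eq_card_basis b
  simp at hc
  refine ⟨m, by omega, b.equiv (Pi.basisFun K (Fin m ⊕ Fin m)) (Equiv.sumComm _ _), fun x y => ?_⟩
  have key : (sympBilin m K).compl₁₂ (b.equiv (Pi.basisFun K (Fin m ⊕ Fin m)) (Equiv.sumComm _ _)).toLinearMap
      (b.equiv (Pi.basisFun K (Fin m ⊕ Fin m)) (Equiv.sumComm _ _)).toLinearMap = Matrix.toBilin' B := by
    refine b.ext fun i => b.ext fun i' => ?_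
    simp only [LinearMap.compl₁₂_apply, LinearEquiv.coe_coe, Module.Basis.equiv_apply,
      Equiv.sumComm_apply, Pi.basisFun_apply, sympBilin_apply]
    rcases i with i | i <;> rcases i' with i' | i'
    · simp [Sum.swap, sympForm_single_inr, h2]
    · simp [Sum.swap, sympForm_single_inl, h1, Pi.single_apply, eq_comm]
    · rw [← LinearMap.IsAlt.neg hA (b (Sum.inl i')) (b (Sum.inr i)), h1]
      simp [Sum.swap, sympForm_single_inr, Pi.single_apply]
    · simp [Sum.swap, sympForm_single_inl, h3]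
  have := LinearMap.congr_fun (LinearMap.congr_fun key x) y
  rwa [LinearMap.compl₁₂_apply, sympBilin_apply, bil_toBilin] at this

theorem sympForm_eq_bil (m : ℕ) : Cfsg.sympForm m K = bil (Matrix.J (Fin m) K) := rfl

/-- Alternating matrices of the same size are congruent. -/
theorem cong_J {B : Matrix ι ι K} (hd : B.det ≠ 0) (ha : ∀ x, bil B x x = 0) {m : ℕ}
    (hm : Fintype.card ι = 2 * m) : Cong B (Matrix.J (Fin m) K) := by
  obtain ⟨m', hm', e, he⟩ := exists_equiv_sympForm hd ha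
  obtain rfl : m' = m := by omega
  exact ⟨e, 1, fun x y => by rw [Units.val_one, one_mul]; exact he x y⟩

section Odd

variable [Finite K]

/-- Symmetric matrices with determinants in one square class are congruent. -/
theorem cong_symm (h2 : (2 : K) ≠ 0) {B : Matrix ι ι K} {B' : Matrix ι' ι' K} (hs : Bᵀ = B)
    (hs' : B'ᵀ = B') (hcard : Fintype.card ι = Fintype.card ι') (hd : B.det ≠ 0) (hd' : B'.det ≠ 0)
    (hsq : IsSquare (B.det * B'.det)) : Cong B B' := by
  have hS : ∀ {κ : Type} [Fintype κ] [DecidableEq κ] {M : Matrix κ κ K}, Mᵀ = M → (Matrix.toBilin' M).IsSymm :=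
    fun hM => ⟨fun x y => by rw [bil_toBilin, bil_toBilin, bil_comm hM]⟩
  have hM : ∀ {κ : Type} [Fintype κ] [DecidableEq κ] (M : Matrix κ κ K),
      LinearMap.BilinForm.toMatrix (Pi.basisFun K κ) (Matrix.toBilin' M) = M := fun M => by
    rw [LinearMap.BilinForm.toMatrix_basisFun, LinearMap.BilinForm.toMatrix'_toBilin']
  obtain ⟨g, hg⟩ := exists_isometry_of_isSquare h2 _ _ (hS hs) (hS hs') (Pi.basisFun K ι) (Pi.basisFun K ι')
    hcard (by rwa [hM]) (by rwa [hM]) (by rwa [hM, hM])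
  exact ⟨g, 1, fun x y => by rw [Units.val_one, one_mul, ← bil_toBilin, hg, bil_toBilin]⟩

variable (K) in
/-- Half the hyperbolic matrix. -/
def plusM (m : ℕ) : Matrix (Fin m ⊕ Fin m) (Fin m ⊕ Fin m) K := (2⁻¹ : K) • fromBlocks 0 1 1 0

variable (K) in
/-- The matrix of `x₀² + Σ xᵢ yᵢ`. -/
def oddM (m : ℕ) : Matrix (Unit ⊕ (Fin m ⊕ Fin m)) (Unit ⊕ (Fin m ⊕ Fin m)) K :=
  fromBlocks 1 0 0 (plusM K m)

/-- The matrix of `Σ xᵢ yᵢ + z₁² - α z₂²`. -/
def minusM (m : ℕ) (α : K) : Matrix ((Fin m ⊕ Fin m) ⊕ Fin 2) ((Fin m ⊕ Fin m) ⊕ Fin 2) K :=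
  fromBlocks (plusM K m) 0 0 (diagonal ![1, -α])

theorem plusM_transpose (m : ℕ) : (plusM K m)ᵀ = plusM K m := by
  simp [plusM, Matrix.transpose_smul, fromBlocks_transpose]

theorem oddM_transpose (m : ℕ) : (oddM K m)ᵀ = oddM K m := by
  simp [oddM, fromBlocks_transpose, plusM_transpose]

theorem minusM_transpose (m : ℕ) (α : K) : (minusM m α)ᵀ = minusM m α := by
  simp [minusM, fromBlocks_transpose, plusM_transpose]

theorem det_plusM (m : ℕ) : (plusM K m).det = ((2⁻¹ : K) ^ m) ^ 2 * (-1) ^ m := by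
  rw [plusM, Matrix.det_smul, det_fromBlocks_zero₁₁', Matrix.det_one, Fintype.card_fin]
  rw [Fintype.card_sum, Fintype.card_fin, ← pow_mul, mul_two]
  ring

theorem det_plusM_ne (h2 : (2 : K) ≠ 0) (m : ℕ) : (plusM K m).det ≠ 0 := by
  rw [det_plusM]
  exact mul_ne_zero (pow_ne_zero _ (pow_ne_zero _ (inv_ne_zero h2))) (pow_ne_zero _ (neg_ne_zero.2 one_ne_zero))

theorem det_oddM (m : ℕ) : (oddM K m).det = ((2⁻¹ : K) ^ m) ^ 2 * (-1) ^ m := by
  rw [oddM, det_fromBlocks_zero₁₂, Matrix.det_one, one_mul, det_plusM]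

theorem det_minusM (m : ℕ) (α : K) : (minusM m α).det = ((2⁻¹ : K) ^ m) ^ 2 * (-1) ^ (m + 1) * α := by
  rw [minusM, det_fromBlocks_zero₁₂, det_plusM, Matrix.det_diagonal, Fin.prod_univ_two]
  simp [pow_succ]

/-- Odd size: one class. -/
theorem cong_oddM (h2 : (2 : K) ≠ 0) {B : Matrix ι ι K} (hs : Bᵀ = B) (hd : B.det ≠ 0) {m : ℕ}
    (hm : Fintype.card ι = 2 * m + 1) : Cong B (oddM K m) := by
  obtain ⟨c, hc⟩ : ∃ c : K, c = B.det * (-1) ^ m := ⟨_, rfl⟩
  have hc0 : c ≠ 0 := hc ▸ mul_ne_zero hd (pow_ne_zero _ (neg_ne_zero.2 one_ne_zero))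
  have h1 : Cong B (c • B) := cong_of_eq (LinearEquiv.refl K _) hc0 fun x y => bil_smul c B x y
  refine h1.trans (cong_symm h2 (by rw [Matrix.transpose_smul, hs]) (oddM_transpose m)
    (by rw [hm]; simp; omega) ?_ ?_ ?_)
  · rw [Matrix.det_smul]; exact mul_ne_zero (pow_ne_zero _ hc0) hd
  · rw [det_oddM, ← det_plusM]; exact det_plusM_ne h2 m
  · rw [Matrix.det_smul, hm, det_oddM, hc]
    refine ⟨(B.det * (-1) ^ m) ^ m * B.det * (2⁻¹ : K) ^ m * (-1) ^ m, ?_⟩
    ring

/-- Even size: two classes. -/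
theorem cong_plusM_or_minusM (h2 : (2 : K) ≠ 0) {α : K} (hα : ¬ IsSquare α) {B : Matrix ι ι K}
    (hs : Bᵀ = B) (hd : B.det ≠ 0) {m : ℕ} (hm : Fintype.card ι = 2 * (m + 1)) :
    Cong B (plusM K (m + 1)) ∨ Cong B (minusM m α) := by
  have hα0 : α ≠ 0 := fun h => hα (h ▸ ⟨0, by simp⟩)
  have hu : ∀ k : ℕ, ((-1 : K)) ^ k ≠ 0 := fun k => pow_ne_zero _ (neg_ne_zero.2 one_ne_zero)
  by_cases hsq : IsSquare (B.det * (-1) ^ (m + 1))
  · refine Or.inl (cong_symm h2 hs (plusM_transpose _) (by rw [hm]; simp; omega) hd (det_plusM_ne h2 _) ?_)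
    obtain ⟨r, hr⟩ := hsq
    exact ⟨r * (2⁻¹ : K) ^ (m + 1), by rw [det_plusM]; linear_combination ((2⁻¹ : K) ^ (m + 1)) ^ 2 * hr⟩
  · refine Or.inr (cong_symm h2 hs (minusM_transpose _ _) (by rw [hm]; simp; omega) hd ?_ ?_)
    · rw [det_minusM]
      exact mul_ne_zero (mul_ne_zero (pow_ne_zero _ (pow_ne_zero _ (inv_ne_zero h2))) (hu _)) hα0
    · obtain ⟨r, hr⟩ := isSquare_mul_of_not_isSquare hsq hα
      exact ⟨r * (2⁻¹ : K) ^ m, by rw [det_minusM]; linear_combination ((2⁻¹ : K) ^ m) ^ 2 * hr⟩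

end Odd

section Two

variable [CharP K 2]

variable (K) in
/-- The symmetric matrix `1 ⊕ J` of odd size. -/
def oddTwo (m : ℕ) : Matrix (Unit ⊕ (Fin m ⊕ Fin m)) (Unit ⊕ (Fin m ⊕ Fin m)) K :=
  fromBlocks 1 0 0 (Matrix.J (Fin m) K)

/-- The first basis vector. -/
def e0 (K : Type*) [Field K] {m : ℕ} (hm : 1 ≤ m) : Fin m ⊕ Fin m → K := Pi.single (Sum.inl ⟨0, hm⟩) 1

/-- The symmetric matrix of even size with non-zero diagonal. -/
def evenTwo (K : Type*) [Field K] {m : ℕ} (hm : 1 ≤ m) : Matrix (Fin m ⊕ Fin m) (Fin m ⊕ Fin m) K :=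
  Matrix.J (Fin m) K + vecMulVec (Matrix.J (Fin m) K *ᵥ e0 K hm) (Matrix.J (Fin m) K *ᵥ e0 K hm)

theorem bil_add_vecMulVec (B : Matrix ι ι K) (a x y : ι → K) :
    bil (B + vecMulVec a a) x y = bil B x y + (x ⬝ᵥ a) * (y ⬝ᵥ a) := by
  rw [bil, bil, Matrix.add_mulVec, dotProduct_add, Matrix.vecMulVec_mulVec, dotProduct_smul,
    dotProduct_comm a y]
  simp

theorem bil_evenTwo {m : ℕ} (hm : 1 ≤ m) (x y : Fin m ⊕ Fin m → K) :
    bil (evenTwo K hm) x y =
      Cfsg.sympForm m K x y + Cfsg.sympForm m K x (e0 K hm) * Cfsg.sympForm m K y (e0 K hm) :=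
  bil_add_vecMulVec _ _ x y

theorem bil_oddTwo {m : ℕ} (x y : Unit ⊕ (Fin m ⊕ Fin m) → K) :
    bil (oddTwo K m) x y = x (Sum.inl ()) * y (Sum.inl ()) +
      Cfsg.sympForm m K (x ∘ Sum.inr) (y ∘ Sum.inr) := by
  rw [bil, oddTwo, Matrix.fromBlocks_mulVec]
  simp [dotProduct, Cfsg.sympForm, Fintype.sum_sum_type]

variable [Finite K]

/-- Every element is a square. -/
theorem exists_sqrt (a : K) : ∃ b, b * b = a := by
  obtain ⟨b, hb⟩ := FiniteField.isSquare_of_char_two (ringChar.eq K 2) a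
  exact ⟨b, hb.symm⟩

/-- The axis of a symmetric form in characteristic two. -/
theorem exists_axis {B : Matrix ι ι K} (hs : Bᵀ = B) (hd : B.det ≠ 0) :
    ∃ v, ∀ x, bil B x x = bil B x v * bil B x v := by
  choose a ha using fun i => exists_sqrt (B i i)
  refine ⟨B⁻¹ *ᵥ a, fun x => ?_⟩
  have hv : bil B x (B⁻¹ *ᵥ a) = x ⬝ᵥ a := by
    rw [bil, Matrix.mulVec_mulVec, Matrix.mul_nonsing_inv _ (isUnit_iff_ne_zero.2 hd), Matrix.one_mulVec]
  let f : (ι → K) →+ K := AddMonoidHom.mk' (fun x => bil B x x) fun x y => by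
    have e : bil B (x + y) (x + y) = bil B x x + bil B y y + (bil B x y + bil B y x) := by
      simp only [bil, Matrix.mulVec_add, add_dotProduct, dotProduct_add]; ring
    rw [e, bil_comm hs x y, CharTwo.add_self_eq_zero, add_zero]
  have hf : f x = ∑ i, x i * x i * B i i := by
    have e : x = ∑ i, (x i) • (Pi.single i 1 : ι → K) := by
      funext j; simp [Pi.single_apply]
    conv_lhs => rw [e, map_sum]
    refine Finset.sum_congr rfl fun i _ => ?_
    show bil B _ _ = _
    simp [bil, Matrix.mulVec_smul]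
    ring
  show f x = _
  rw [hf, hv, dotProduct, ← sq, CharTwo.sum_sq]
  exact Finset.sum_congr rfl fun i _ => by rw [mul_pow, sq (a i), ha]; ring

theorem det_oddTwo_ne (m : ℕ) : (oddTwo K m).det ≠ 0 := by
  rw [oddTwo, det_fromBlocks_zero₁₂, Matrix.det_one, one_mul]
  exact (Matrix.isUnit_det_J (Fin m) K).ne_zero

/-- An axis `v` with `B(v,v) = 1` splits off: the rest is symplectic. -/
theorem exists_oddTwo_map {B : Matrix ι ι K} (hs : Bᵀ = B) (hd : B.det ≠ 0) {v : ι → K}
    (hv : ∀ x, bil B x x = bil B x v * bil B x v) (hvv : bil B v v = 1) :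
    ∃ m k, k ≤ 1 ∧ Fintype.card ι = 2 * m + k ∧ ∃ L : (Unit ⊕ (Fin m ⊕ Fin m) → K) →ₗ[K] (ι → K),
      ∀ x y, bil B (L x) (L y) = bil (oddTwo K m) x y := by
  obtain ⟨A, hA⟩ : ∃ A, A = B + vecMulVec (B *ᵥ v) (B *ᵥ v) := ⟨_, rfl⟩
  have hAb : ∀ x y, bil A x y = bil B x y + bil B x v * bil B y v := fun x y => by
    rw [hA, bil_add_vecMulVec]; rfl
  have hAalt : (Matrix.toBilin' A).IsAlt := fun x => by
    rw [bil_toBilin, hAb, ← hv, CharTwo.add_self_eq_zero]
  obtain ⟨m, k, b, h1, h2, h3, h4⟩ := exists_symplectic_basis (Matrix.toBilin' A) hAalt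
  simp only [bil_toBilin] at h1 h2 h3 h4
  have hrad : ∀ x, (∀ y, bil A x y = 0) → x = bil B x v • v := by
    intro x hx
    refine sub_eq_zero.1 (Matrix.eq_zero_of_vecMul_eq_zero hd ?_)
    funext i
    have h := hx (Pi.single i 1)
    rw [hAb, bil_comm hs v (Pi.single i 1)] at h
    have e : bil B (x - bil B x v • v) (Pi.single i 1) = 0 := by
      have : bil B (x - bil B x v • v) (Pi.single i 1) =
          bil B x (Pi.single i 1) - bil B x v * bil B v (Pi.single i 1) := by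
        simp [bil, sub_dotProduct, smul_dotProduct]
      rw [this, CharTwo.sub_eq_add, h]
    rw [bil, Matrix.dotProduct_mulVec] at e
    simpa using e
  have hk : k ≤ 1 := by
    by_contra hk
    have e0' := hrad _ (h4 ⟨0, by omega⟩)
    have e1' := hrad _ (h4 ⟨1, by omega⟩)
    have hne : bil B (b (Sum.inr ⟨1, by omega⟩)) v ≠ 0 := fun h => b.ne_zero _ (by rw [e1', h, zero_smul])
    have h01 : bil B (b (Sum.inr ⟨1, by omega⟩)) v • b (Sum.inr ⟨0, by omega⟩) =
        bil B (b (Sum.inr ⟨0, by omega⟩)) v • b (Sum.inr ⟨1, by omega⟩) :=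
      calc _ = bil B (b (Sum.inr ⟨1, by omega⟩)) v • (bil B (b (Sum.inr ⟨0, by omega⟩)) v • v) := by rw [← e0']
        _ = bil B (b (Sum.inr ⟨0, by omega⟩)) v • (bil B (b (Sum.inr ⟨1, by omega⟩)) v • v) := smul_comm _ _ _
        _ = _ := by rw [← e1']
    have := congrArg (fun z => b.repr z (Sum.inr ⟨0, by omega⟩)) h01
    simp at this
    exact hne this
  have hcb := Module.finrank_eq_card_basis b
  simp at hcb
  obtain ⟨u, hu⟩ : ∃ u : Fin m ⊕ Fin m → (ι → K),
      ∀ i, u i = b (Sum.inl i) + bil B (b (Sum.inl i)) v • v := ⟨_, fun _ => rfl⟩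
  let L : (Unit ⊕ (Fin m ⊕ Fin m) → K) →ₗ[K] (ι → K) :=
    Fintype.linearCombination K (Sum.elim (fun _ => v) fun i => u i.swap)
  refine ⟨m, k, hk, by omega, L, fun x y => ?_⟩
  have hl : ∀ p z, bil B (u p) z = bil B (b (Sum.inl p)) z + bil B (b (Sum.inl p)) v * bil B v z :=
    fun p z => by rw [hu]; simp [bil, add_dotProduct, smul_dotProduct]
  have huv : ∀ p, bil B (u p) v = 0 := fun p => by
    rw [hl, hvv, mul_one, CharTwo.add_self_eq_zero]
  have hvu : ∀ p, bil B v (u p) = 0 := fun p => by rw [bil_comm hs, huv]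
  have huu : ∀ p p', bil B (u p) (u p') = bil A (b (Sum.inl p)) (b (Sum.inl p')) := fun p p' => by
    rw [hl, hvu, mul_zero, add_zero, bil_comm hs (u p') (b (Sum.inl p)), hl,
      hAb, bil_comm hs (b (Sum.inl p)) (b (Sum.inl p')), bil_comm hs (b (Sum.inl p)) v]
    ring
  have e1 : ∀ i : Unit, ((Pi.single (Sum.inl i) 1 : Unit ⊕ (Fin m ⊕ Fin m) → K) ∘ Sum.inr) = 0 := fun i => by
    funext p; simp
  have e2 : ∀ p : Fin m ⊕ Fin m, ((Pi.single (Sum.inr p) 1 : Unit ⊕ (Fin m ⊕ Fin m) → K) ∘ Sum.inr) =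
      Pi.single p 1 := fun p => by funext q; simp [Pi.single_apply]
  have key : (Matrix.toBilin' B).compl₁₂ L L = Matrix.toBilin' (oddTwo K m) := by
    refine (Pi.basisFun K _).ext fun i => (Pi.basisFun K _).ext fun j => ?_
    simp only [LinearMap.compl₁₂_apply, Pi.basisFun_apply, L, Fintype.linearCombination_apply_single, one_smul,
      bil_toBilin, bil_oddTwo]
    rcases i with i | i <;> rcases j with j | j
    · simp [hvv, e1, Cfsg.sympForm]
    · simp [hvu, e1, Cfsg.sympForm]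
    · simp [huv, e1, Cfsg.sympForm]
    · simp only [Sum.elim_inr, huu, e2]
      rcases i with i | i <;> rcases j with j | j
      · simp [Sum.swap, h3, sympForm_single_inl]
      · have h1' : bil A (b (Sum.inl (Sum.inr i))) (b (Sum.inl (Sum.inl j))) = if j = i then 1 else 0 := by
          rw [← bil_toBilin, ← LinearMap.IsAlt.neg hAalt, bil_toBilin, h1, CharTwo.neg_eq]
        simp [Sum.swap, h1', sympForm_single_inr, Pi.single_apply, CharTwo.neg_eq, eq_comm]
      · simp [Sum.swap, h1, sympForm_single_inl, Pi.single_apply, eq_comm]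
      · simp [Sum.swap, h2, sympForm_single_inr]
  have := LinearMap.congr_fun (LinearMap.congr_fun key x) y
  rwa [LinearMap.compl₁₂_apply, bil_toBilin, bil_toBilin] at this

/-- An axis `v` with `B(v,v) = 0` gives a symplectic form. -/
theorem exists_symp_of_axis {B : Matrix ι ι K} (hd : B.det ≠ 0) {v : ι → K}
    (hv : ∀ x, bil B x x = bil B x v * bil B x v) (hvv : bil B v v = 0) :
    ∃ m, Fintype.card ι = 2 * m ∧ ∃ e : (ι → K) ≃ₗ[K] (Fin m ⊕ Fin m → K),
      ∀ x y, Cfsg.sympForm m K (e x) (e y) = bil B x y + bil B x v * bil B y v := by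
  obtain ⟨A, hA⟩ : ∃ A, A = B + vecMulVec (B *ᵥ v) (B *ᵥ v) := ⟨_, rfl⟩
  have hAb : ∀ x y, bil A x y = bil B x y + bil B x v * bil B y v := fun x y => by
    rw [hA, bil_add_vecMulVec]; rfl
  have hdA : A.det ≠ 0 := by
    intro h0
    obtain ⟨z, hz0, hz⟩ := Matrix.exists_vecMul_eq_zero_iff.2 h0
    apply hz0
    have hzA : ∀ y, bil A z y = 0 := fun y => by
      rw [bil, Matrix.dotProduct_mulVec, hz, zero_dotProduct]
    have hzv : bil B z v = 0 := by
      have := hzA v
      rwa [hAb, hvv, mul_zero, add_zero] at this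
    apply Matrix.eq_zero_of_vecMul_eq_zero hd
    funext i
    have := hzA (Pi.single i 1)
    rw [hAb, hzv, zero_mul, add_zero, bil, Matrix.dotProduct_mulVec] at this
    simpa using this
  obtain ⟨m, hm, e, he⟩ := exists_equiv_sympForm hdA fun x => by
    rw [hAb, ← hv, CharTwo.add_self_eq_zero]
  exact ⟨m, hm, e, fun x y => (he x y).trans (hAb x y)⟩

theorem axis_self {B : Matrix ι ι K} {v : ι → K} (hv : ∀ x, bil B x x = bil B x v * bil B x v) :
    bil B v v = 0 ∨ bil B v v = 1 := by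
  rcases eq_or_ne (bil B v v) 0 with h0 | h0
  · exact Or.inl h0
  · exact Or.inr (mul_left_cancel₀ h0 ((hv v).symm.trans (mul_one _).symm))

/-- Odd size in characteristic two: one class. -/
theorem cong_oddTwo {B : Matrix ι ι K} (hs : Bᵀ = B) (hd : B.det ≠ 0) {m : ℕ}
    (hm : Fintype.card ι = 2 * m + 1) : Cong (oddTwo K m) B := by
  obtain ⟨v, hv⟩ := exists_axis hs hd
  rcases axis_self hv with h | h
  · obtain ⟨m', hm', -⟩ := exists_symp_of_axis hd hv h
    omega
  · obtain ⟨m', k, hk, hc, L, hL⟩ := exists_oddTwo_map hs hd hv h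
    obtain rfl : m' = m := by omega
    exact cong_of_linearMap (det_oddTwo_ne m') (by rw [hm]; simp; omega) L hL

/-- Even size in characteristic two: a matrix with non-zero diagonal is `evenTwo`. -/
theorem cong_evenTwo {B : Matrix ι ι K} (hs : Bᵀ = B) (hd : B.det ≠ 0) {x₀ : ι → K} (hx₀ : bil B x₀ x₀ ≠ 0)
    {m : ℕ} (hm1 : 1 ≤ m) (hm : Fintype.card ι = 2 * m) : Cong B (evenTwo K hm1) := by
  obtain ⟨v, hv⟩ := exists_axis hs hd
  have hv0 : v ≠ 0 := fun h => hx₀ (by rw [hv, h]; simp [bil])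
  have hvv : bil B v v = 0 := by
    refine (axis_self hv).resolve_right fun h => ?_
    obtain ⟨m', k, hk, hc, L, hL⟩ := exists_oddTwo_map hs hd hv h
    have inj : Function.Injective L := by
      rw [injective_iff_map_eq_zero]
      intro x hx
      apply Matrix.eq_zero_of_vecMul_eq_zero (det_oddTwo_ne (K := K) m')
      funext i
      have h1 := hL x (Pi.single i 1)
      rw [hx, bil, zero_dotProduct, bil, Matrix.dotProduct_mulVec] at h1
      simpa using h1.symm
    have := LinearMap.finrank_le_finrank_of_injective inj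
    simp at this
    omega
  obtain ⟨m', hm', e, he⟩ := exists_symp_of_axis hd hv hvv
  obtain rfl : m' = m := by omega
  obtain ⟨w, hw⟩ : ∃ w, Cfsg.sympForm m' K (e v) w = 1 := by
    have hev : e v ≠ 0 := fun h => hv0 (e.map_eq_zero_iff.1 h)
    obtain ⟨z, hz⟩ : ∃ z, sympBilin m' K (e v) z ≠ 0 := by
      by_contra h
      push Not at h
      exact hev (sympBilin_nondegenerate.1 _ h)
    exact ⟨(sympBilin m' K (e v) z)⁻¹ • z, by
      rw [← sympBilin_apply, map_smul, smul_eq_mul, inv_mul_cancel₀ hz]⟩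
  obtain ⟨w₀, hw0⟩ : ∃ w₀, Cfsg.sympForm m' K (e0 K hm1) w₀ = 1 :=
    ⟨Pi.single (Sum.inr ⟨0, hm1⟩) 1, by rw [sympForm_single_inr]; simp [e0, CharTwo.neg_eq]⟩
  obtain ⟨g, hg, -⟩ := exists_iso_pair (sympBilin m' K) sympBilin_isAlt sympBilin_nondegenerate
    (show sympBilin m' K (e v) w = 1 by rw [sympBilin_apply]; exact hw)
    (show sympBilin m' K (e0 K hm1) w₀ = 1 by rw [sympBilin_apply]; exact hw0)
  have hgm : ∀ x y, Cfsg.sympForm m' K (g.1 x) (g.1 y) = Cfsg.sympForm m' K x y := fun x y => by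
    rw [← sympBilin_apply, ← sympBilin_apply]; exact g.2 x y
  refine ⟨e.trans g.1, 1, fun x y => ?_⟩
  rw [Units.val_one, one_mul, LinearEquiv.trans_apply, LinearEquiv.trans_apply, bil_evenTwo, hgm, ← hg,
    hgm, hgm, he, he, he, hvv]
  linear_combination CharTwo.add_self_eq_zero (bil B x v * bil B y v)

end Two

end CfsgLib.GraphClass
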