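import Cfsg.Agent.GraphClass.Standard

/-!
# Projective similarity groups of the standard matrices in characteristic two

They are `Sp_{2m}`, the centraliser of a transvection in it, and `PGO` of the odd-dimensional
quadratic form (again `Sp_{2m}`).
-/

set_option autoImplicit false
set_option linter.unusedSectionVars false

namespace CfsgLib.GraphClass

open Matrix CfsgLib.Forms

variable {K : Type*} [Field K]
variable {ι : Type} [Fintype ι] [DecidableEq ι]

theorem scalar_mulVec (u : Kˣ) (x : ι → K) :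
    (Matrix.GeneralLinearGroup.scalar ι u).1 *ᵥ x = (u : K) • x := by
  funext i; simp [Matrix.mulVec_diagonal]

/-- A group mapping bijectively onto a subgroup of `GL` modulo scalars. -/
theorem nonempty_equiv_projQuot {G : Type*} [Group G] (H : Subgroup (GL ι K)) (ψ : G →* GL ι K)
    (hmem : ∀ g, ψ g ∈ H) (hinj : ∀ g u, ψ g = Matrix.GeneralLinearGroup.scalar ι u → g = 1)
    (hsurj : ∀ h ∈ H, ∃ g u, h = ψ g * Matrix.GeneralLinearGroup.scalar ι u) :
    Nonempty (G ≃* Cfsg.projQuot H) := by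
  let π : G →* Cfsg.projQuot H := (QuotientGroup.mk' _).comp (ψ.codRestrict H hmem)
  refine ⟨MulEquiv.ofBijective π ⟨?_, ?_⟩⟩
  · rw [injective_iff_map_eq_one]
    intro g hg
    obtain ⟨u, hu⟩ := (QuotientGroup.eq_one_iff _).1 hg
    exact hinj g u hu.symm
  · intro x
    obtain ⟨h, rfl⟩ := QuotientGroup.mk_surjective x
    obtain ⟨g, u, hu⟩ := hsurj h.1 h.2
    refine ⟨g, QuotientGroup.eq.2 ⟨u, ?_⟩⟩
    show Matrix.GeneralLinearGroup.scalar ι u = (ψ g)⁻¹ * h.1
    rw [hu, inv_mul_cancel_left]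

variable [CharP K 2] [Finite K]

theorem sq_inj' {a b : K} (h : a * a = b * b) : a = b := by
  rcases mul_self_eq_mul_self_iff.1 h with h | h
  · exact h
  · rwa [CharTwo.neg_eq] at h

theorem units_eq_one {u : Kˣ} (h : (u : K) * u = 1) : u = 1 :=
  Units.ext (sq_inj' (by rw [h, Units.val_one, one_mul]))

/-- A similarity is a scalar times an isometry. -/
theorem exists_scalar_mul {c : Kˣ} (h : GL ι K) :
    ∃ (u : Kˣ) (g : GL ι K), h = g * Matrix.GeneralLinearGroup.scalar ι u ∧ (u : K) * u = c ∧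
      ∀ x, h.1 *ᵥ x = (u : K) • (g.1 *ᵥ x) := by
  obtain ⟨s, hs⟩ := exists_sqrt (c : K)
  have hs0 : s ≠ 0 := fun h => c.ne_zero (by rw [← hs, h, zero_mul])
  refine ⟨Units.mk0 s hs0, h * (Matrix.GeneralLinearGroup.scalar ι (Units.mk0 s hs0))⁻¹, by group, hs,
    fun x => ?_⟩
  conv_lhs => rw [show h = h * (Matrix.GeneralLinearGroup.scalar ι (Units.mk0 s hs0))⁻¹ *
    Matrix.GeneralLinearGroup.scalar ι (Units.mk0 s hs0) by group, Units.val_mul, ← Matrix.mulVec_mulVec,
    scalar_mulVec, Matrix.mulVec_smul]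

variable {m : ℕ}

local notation "J2" => Matrix.J (Fin m) K
local notation "V" => (Fin m ⊕ Fin m → K)

theorem symp_symm (x y : V) : Cfsg.sympForm m K x y = Cfsg.sympForm m K y x := by
  rw [sympForm_swap, CharTwo.neg_eq]

theorem symp_smul (a b : K) (x y : V) :
    Cfsg.sympForm m K (a • x) (b • y) = a * (b * Cfsg.sympForm m K x y) := by
  rw [sympForm_eq_bil, bil, bil, Matrix.mulVec_smul, smul_dotProduct, dotProduct_smul, smul_eq_mul, smul_eq_mul]

/-- The symplectic group as matrices in `GL`. -/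
noncomputable def spHom : ↥(Matrix.symplecticGroup (Fin m) K) →* GL (Fin m ⊕ Fin m) K where
  toFun A := ⟨A.1, (A⁻¹).1, by rw [← Submonoid.coe_mul, mul_inv_cancel, OneMemClass.coe_one],
    by rw [← Submonoid.coe_mul, inv_mul_cancel, OneMemClass.coe_one]⟩
  map_one' := Units.ext rfl
  map_mul' A B := Units.ext rfl

theorem spHom_val (A : ↥(Matrix.symplecticGroup (Fin m) K)) : (spHom A).1 = A.1 := rfl

theorem spHom_scalar {A : ↥(Matrix.symplecticGroup (Fin m) K)} {u : Kˣ}
    (h : spHom A = Matrix.GeneralLinearGroup.scalar (Fin m ⊕ Fin m) u) : A = 1 := by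
  rcases Nat.eq_zero_or_pos m with rfl | hm
  · exact Subtype.ext (Matrix.ext fun i => by rcases i with i | i <;> exact i.elim0)
  have hA : ∀ x : V, A.1 *ᵥ x = (u : K) • x := fun x => by
    rw [← spHom_val, h, scalar_mulVec]
  have h1 := sympForm_map A (e0 K hm) (Pi.single (Sum.inr ⟨0, hm⟩) 1)
  rw [hA, hA, symp_smul, sympForm_single_inr] at h1
  simp [e0, CharTwo.neg_eq] at h1
  have hu := units_eq_one h1
  exact sp_ext fun x => by rw [hA, hu, Units.val_one, one_smul, OneMemClass.coe_one, Matrix.one_mulVec]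

/-- `Sp_{2m} ≅ PGSp_{2m}`. -/
theorem nonempty_sp_pgsp :
    Nonempty (↥(Matrix.symplecticGroup (Fin m) K) ≃* Cfsg.projQuot (sim J2)) := by
  refine nonempty_equiv_projQuot _ spHom (fun A => ⟨1, fun x y => ?_⟩) (fun A u h => spHom_scalar h) ?_
  · rw [Units.val_one, one_mul]; exact sympForm_map A x y
  · rintro h ⟨c, hc⟩
    obtain ⟨u, g, hgu, hu, hg⟩ := exists_scalar_mul (c := c) h
    have hg' : g.1 ∈ Matrix.symplecticGroup (Fin m) K := mem_symplecticGroup_iff_form.2 fun x y => by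
      have h1 : Cfsg.sympForm m K (h.1 *ᵥ x) (h.1 *ᵥ y) = (c : K) * Cfsg.sympForm m K x y := hc x y
      rw [hg, hg, symp_smul, ← mul_assoc, hu] at h1
      exact mul_left_cancel₀ c.ne_zero h1
    exact ⟨⟨g.1, hg'⟩, u, hgu.trans (by congr 1; exact Units.ext rfl)⟩

variable (K) in
/-- The transvection `x ↦ x + f(x,e₀) e₀`. -/
def transvM (hm : 1 ≤ m) : Matrix (Fin m ⊕ Fin m) (Fin m ⊕ Fin m) K :=
  1 + vecMulVec (e0 K hm) (J2 *ᵥ e0 K hm)

theorem transvM_mulVec (hm : 1 ≤ m) (x : V) :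
    transvM K hm *ᵥ x = x + Cfsg.sympForm m K x (e0 K hm) • e0 K hm := by
  rw [transvM, Matrix.add_mulVec, Matrix.one_mulVec, Matrix.vecMulVec_mulVec, sympForm_eq_bil, bil,
    dotProduct_comm x]
  simp

theorem transvM_mem (hm : 1 ≤ m) : transvM K hm ∈ Matrix.symplecticGroup (Fin m) K := by
  refine mem_symplecticGroup_iff_form.2 fun x y => ?_
  rw [transvM_mulVec, transvM_mulVec, sympForm_eq_bil]
  simp only [bil, Matrix.mulVec_add, Matrix.mulVec_smul, add_dotProduct, smul_dotProduct, dotProduct_add,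
    dotProduct_smul, smul_eq_mul]
  simp only [← bil.eq_def, ← sympForm_eq_bil, sympForm_self, symp_symm (e0 K hm) y]
  linear_combination CharTwo.add_self_eq_zero (Cfsg.sympForm m K x (e0 K hm) * Cfsg.sympForm m K y (e0 K hm))

variable (K) in
/-- The transvection as an element of `Sp`. -/
def transvSp (hm : 1 ≤ m) : ↥(Matrix.symplecticGroup (Fin m) K) := ⟨transvM K hm, transvM_mem hm⟩

theorem isTransvection_transvM (hm : 1 ≤ m) : Cfsg.IsTransvection (transvM K hm) := by
  have h1 : transvM K hm - 1 = vecMulVec (e0 K hm) (J2 *ᵥ e0 K hm) := add_sub_cancel_left _ _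
  refine ⟨le_antisymm (h1 ▸ Matrix.rank_vecMulVec_le _ _) (Nat.one_le_iff_ne_zero.2 fun h0 => ?_), ?_⟩
  · have h2 : transvM K hm - 1 = 0 := by
      rw [Matrix.rank, Submodule.finrank_eq_zero, LinearMap.range_eq_bot] at h0
      exact Matrix.ext_iff_mulVec.2 fun x => (LinearMap.congr_fun h0 x).trans (Matrix.zero_mulVec x).symm
    have h3 := congrArg (· *ᵥ (Pi.single (Sum.inr ⟨0, hm⟩) (1 : K) : V)) h2
    simp only [Matrix.sub_mulVec, Matrix.one_mulVec, transvM_mulVec, add_sub_cancel_left, Matrix.zero_mulVec] at h3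
    have h4 := congrFun h3 (Sum.inl ⟨0, hm⟩)
    rw [symp_symm, sympForm_single_inr] at h4
    simp [e0, CharTwo.neg_eq] at h4
  · rw [h1, Matrix.vecMulVec_mul_vecMulVec, dotProduct_comm,
      show e0 K hm ⬝ᵥ (J2 *ᵥ e0 K hm) = 0 from sympForm_self _, zero_smul, Matrix.vecMulVec_zero]

theorem bil_evenTwo_transv (hm : 1 ≤ m) (x y : V) :
    bil (evenTwo K hm) x y = Cfsg.sympForm m K (transvM K hm *ᵥ x) y := by
  rw [bil_evenTwo, transvM_mulVec, sympForm_eq_bil]
  simp only [bil, add_dotProduct, smul_dotProduct, smul_eq_mul]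
  simp only [← bil.eq_def, ← sympForm_eq_bil, symp_symm (e0 K hm) y]

/-- `C_{Sp}(t) ≅` the projective similarity group of `evenTwo`. -/
theorem nonempty_centralizer_evenTwo (hm : 1 ≤ m) :
    Nonempty (↥(Subgroup.centralizer ({transvSp K hm} : Set ↥(Matrix.symplecticGroup (Fin m) K))) ≃*
      Cfsg.projQuot (sim (evenTwo K hm))) := by
  refine nonempty_equiv_projQuot _ (spHom.comp (Subgroup.subtype _)) (fun A => ⟨1, fun x y => ?_⟩)
    (fun A u h => Subtype.ext (spHom_scalar h)) ?_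
  · rw [Units.val_one, one_mul, bil_evenTwo_transv, bil_evenTwo_transv]
    have hA := congrArg (fun B : ↥(Matrix.symplecticGroup (Fin m) K) => B.1 *ᵥ x)
      (Subgroup.mem_centralizer_singleton_iff.1 A.2)
    simp only [Submonoid.coe_mul, ← Matrix.mulVec_mulVec] at hA
    show Cfsg.sympForm m K (transvM K hm *ᵥ (A.1.1 *ᵥ x)) (A.1.1 *ᵥ y) = _
    rw [show transvM K hm *ᵥ (A.1.1 *ᵥ x) = A.1.1 *ᵥ (transvM K hm *ᵥ x) from hA.symm, sympForm_map]
  · rintro h ⟨c, hc⟩
    obtain ⟨u, g, hgu, hu, hg⟩ := exists_scalar_mul (c := c) h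
    have hiso : ∀ x y, bil (evenTwo K hm) (g.1 *ᵥ x) (g.1 *ᵥ y) = bil (evenTwo K hm) x y := fun x y => by
      have h1 := hc x y
      simp only [hg, bil, Matrix.mulVec_smul, smul_dotProduct, dotProduct_smul, smul_eq_mul, ← mul_assoc, hu] at h1
      exact mul_left_cancel₀ c.ne_zero h1
    have hN0 : ∀ x, bil (evenTwo K hm) x (e0 K hm) = Cfsg.sympForm m K x (e0 K hm) := fun x => by
      rw [bil_evenTwo, sympForm_self, mul_zero, add_zero]
    have hfix : g.1 *ᵥ e0 K hm = e0 K hm := by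
      refine sub_eq_zero.1 (sympForm_sep _ fun z => ?_)
      obtain ⟨x, rfl⟩ : ∃ x, g.1 *ᵥ x = z :=
        ⟨(g⁻¹ : GL _ K).1 *ᵥ z, by rw [Matrix.mulVec_mulVec, g.mul_inv, Matrix.one_mulVec]⟩
      have hsq : Cfsg.sympForm m K (g.1 *ᵥ x) (e0 K hm) = Cfsg.sympForm m K x (e0 K hm) := by
        have := hiso x x
        rw [bil_evenTwo, bil_evenTwo, sympForm_self, sympForm_self, zero_add, zero_add] at this
        exact sq_inj' this
      have hge : Cfsg.sympForm m K (g.1 *ᵥ x) (g.1 *ᵥ e0 K hm) +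
          Cfsg.sympForm m K (g.1 *ᵥ x) (e0 K hm) * Cfsg.sympForm m K (g.1 *ᵥ e0 K hm) (e0 K hm) =
            Cfsg.sympForm m K x (e0 K hm) := by rw [← bil_evenTwo, hiso, hN0]
      have h0 : Cfsg.sympForm m K (g.1 *ᵥ e0 K hm) (e0 K hm) = 0 := by
        have := hiso (e0 K hm) (e0 K hm)
        rw [bil_evenTwo, bil_evenTwo, sympForm_self, sympForm_self, zero_add, zero_add, mul_zero] at this
        exact mul_self_eq_zero.1 this
      rw [h0, mul_zero, add_zero, ← hsq] at hge
      rw [symp_symm, sympForm_eq_bil]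
      rw [sympForm_eq_bil] at hge
      simp only [bil] at hge
      simp only [bil, Matrix.mulVec_sub, dotProduct_sub]
      rw [hge, sub_self]
    have he : ∀ x, Cfsg.sympForm m K (g.1 *ᵥ x) (e0 K hm) = Cfsg.sympForm m K x (e0 K hm) := fun x => by
      rw [← hN0, ← hN0, ← hiso x, hfix]
    have hg' : g.1 ∈ Matrix.symplecticGroup (Fin m) K := mem_symplecticGroup_iff_form.2 fun x y => by
      have h1 := hiso x y
      rw [bil_evenTwo, bil_evenTwo, he, he] at h1
      exact add_right_cancel h1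
    refine ⟨⟨⟨g.1, hg'⟩, Subgroup.mem_centralizer_singleton_iff.2 (sp_ext fun x => ?_)⟩, u,
      hgu.trans (by congr 1; exact Units.ext rfl)⟩
    show (g.1 * transvM K hm) *ᵥ x = (transvM K hm * g.1) *ᵥ x
    rw [← Matrix.mulVec_mulVec, ← Matrix.mulVec_mulVec, transvM_mulVec, transvM_mulVec, he,
      Matrix.mulVec_add, Matrix.mulVec_smul, hfix]

/-! ### Odd size -/

local notation "W" => (Unit ⊕ (Fin m ⊕ Fin m) → K)

theorem plus_add (x y : V) : Cfsg.quadFormPlus m K (x + y) =
    Cfsg.quadFormPlus m K x + Cfsg.quadFormPlus m K y + Cfsg.sympForm m K x y := by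
  rw [sympForm_eq_sum]
  simp only [Cfsg.quadFormPlus, ← Finset.sum_add_distrib, Pi.add_apply]
  refine Finset.sum_congr rfl fun i _ => ?_
  rw [CharTwo.sub_eq_add]; ring

theorem odd_eq (v : W) : Cfsg.quadFormOdd m K v =
    v (Sum.inl ()) * v (Sum.inl ()) + Cfsg.quadFormPlus m K (v ∘ Sum.inr) := by
  rw [Cfsg.quadFormOdd, sq]; rfl

theorem odd_add (x y : W) : Cfsg.quadFormOdd m K (x + y) =
    Cfsg.quadFormOdd m K x + Cfsg.quadFormOdd m K y + Cfsg.sympForm m K (x ∘ Sum.inr) (y ∘ Sum.inr) := by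
  rw [odd_eq, odd_eq, odd_eq, show (x + y) ∘ Sum.inr = x ∘ Sum.inr + y ∘ Sum.inr from rfl, plus_add,
    Pi.add_apply, CharTwo.add_mul_self]
  ring

theorem blocks_mulVec (l : V) (S : Matrix (Fin m ⊕ Fin m) (Fin m ⊕ Fin m) K) (v : W) :
    fromBlocks (1 : Matrix Unit Unit K) (Matrix.replicateRow Unit l) 0 S *ᵥ v =
      Sum.elim (fun _ => v (Sum.inl ()) + l ⬝ᵥ (v ∘ Sum.inr)) (S *ᵥ (v ∘ Sum.inr)) := by
  rw [Matrix.fromBlocks_mulVec]
  funext i
  rcases i with i | i
  · simp [Matrix.mulVec, dotProduct, Matrix.replicateRow]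
  · simp

/-- The embedding with the row `l`. -/
theorem odd_preserve_iff (l : V) (S : Matrix (Fin m ⊕ Fin m) (Fin m ⊕ Fin m) K) :
    (∀ v, Cfsg.quadFormOdd m K (fromBlocks (1 : Matrix Unit Unit K) (Matrix.replicateRow Unit l) 0 S *ᵥ v) =
      Cfsg.quadFormOdd m K v) ↔
    ∀ w, (l ⬝ᵥ w) * (l ⬝ᵥ w) = Cfsg.quadFormPlus m K (S *ᵥ w) + Cfsg.quadFormPlus m K w := by
  constructor
  · intro h w
    have h1 := h (Sum.elim (0 : Unit → K) w)
    rw [blocks_mulVec, odd_eq, odd_eq] at h1
    simp at h1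
    rw [← h1, add_left_comm, CharTwo.add_self_eq_zero, add_zero]
  · intro h v
    rw [blocks_mulVec, odd_eq, odd_eq]
    simp only [Sum.elim_inl, Sum.elim_comp_inr, CharTwo.add_mul_self, h]
    linear_combination CharTwo.add_self_eq_zero (Cfsg.quadFormPlus m K (S *ᵥ (v ∘ Sum.inr)))

theorem row_unique {l l' : V} (h : ∀ w, (l ⬝ᵥ w) * (l ⬝ᵥ w) = (l' ⬝ᵥ w) * (l' ⬝ᵥ w)) : l = l' :=
  funext fun i => by simpa using sq_inj' (h (Pi.single i 1))

theorem exists_row (A : ↥(Matrix.symplecticGroup (Fin m) K)) :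
    ∃ l : V, ∀ w, (l ⬝ᵥ w) * (l ⬝ᵥ w) = Cfsg.quadFormPlus m K (A.1 *ᵥ w) + Cfsg.quadFormPlus m K w := by
  let f : V →+ K := AddMonoidHom.mk' (fun w => Cfsg.quadFormPlus m K (A.1 *ᵥ w) + Cfsg.quadFormPlus m K w)
    fun x y => by
      rw [Matrix.mulVec_add, plus_add, plus_add, sympForm_map]
      linear_combination CharTwo.add_self_eq_zero (Cfsg.sympForm m K x y)
  choose l hl using fun i => exists_sqrt (f (Pi.single i 1))
  refine ⟨l, fun w => ?_⟩
  have e : w = ∑ i, (w i) • (Pi.single i 1 : V) := by funext j; simp [Pi.single_apply]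
  have hf : f w = ∑ i, w i * w i * f (Pi.single i 1) := by
    conv_lhs => rw [e, map_sum]
    refine Finset.sum_congr rfl fun i _ => ?_
    have hq : ∀ (a : K) (z : V), Cfsg.quadFormPlus m K (a • z) = a * a * Cfsg.quadFormPlus m K z := fun a z => by
      simp only [Cfsg.quadFormPlus, Finset.mul_sum, Pi.smul_apply, smul_eq_mul]
      exact Finset.sum_congr rfl fun j _ => by ring
    show Cfsg.quadFormPlus m K (A.1 *ᵥ _) + Cfsg.quadFormPlus m K _ = _ * (_ + _)
    rw [Matrix.mulVec_smul, hq, hq, mul_add]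
  show _ = f w
  rw [hf, dotProduct, ← sq, CharTwo.sum_sq]
  exact Finset.sum_congr rfl fun i _ => by rw [mul_pow, sq (l i), hl]; ring

/-- `Sp` as the isometry group of the odd quadratic form. -/
noncomputable def spOddHom : ↥(Matrix.symplecticGroup (Fin m) K) →* GL (Unit ⊕ (Fin m ⊕ Fin m)) K :=
  MonoidHom.toHomUnits
    { toFun := fun A => fromBlocks 1 (Matrix.replicateRow Unit (exists_row A).choose) 0 A.1
      map_one' := by
        have h : (exists_row (1 : ↥(Matrix.symplecticGroup (Fin m) K))).choose = (0 : V) :=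
          row_unique fun w => by
            rw [(exists_row (1 : ↥(Matrix.symplecticGroup (Fin m) K))).choose_spec w, OneMemClass.coe_one,
              Matrix.one_mulVec, CharTwo.add_self_eq_zero]
            simp
        rw [h, Matrix.replicateRow_zero, OneMemClass.coe_one, Matrix.fromBlocks_one]
      map_mul' := fun A B => by
        rw [Matrix.fromBlocks_multiply]
        simp only [Matrix.one_mul, Matrix.mul_zero, Matrix.zero_mul, add_zero, zero_add, Submonoid.coe_mul]
        congr 1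
        have e : Matrix.replicateRow Unit (exists_row A).choose * B.1 =
            Matrix.replicateRow Unit ((exists_row A).choose ᵥ* B.1) := by
          ext i j; simp [Matrix.replicateRow, Matrix.mul_apply, Matrix.vecMul, dotProduct]
        rw [e, ← Matrix.replicateRow_add]
        congr 1
        refine row_unique fun w => ?_
        rw [(exists_row (A * B)).choose_spec w, add_dotProduct, CharTwo.add_mul_self,
          ← Matrix.dotProduct_mulVec, (exists_row A).choose_spec, (exists_row B).choose_spec w,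
          Submonoid.coe_mul, ← Matrix.mulVec_mulVec]
        linear_combination -CharTwo.add_self_eq_zero (Cfsg.quadFormPlus m K (B.1 *ᵥ w)) }

theorem spOddHom_val (A : ↥(Matrix.symplecticGroup (Fin m) K)) :
    (spOddHom A).1 = fromBlocks 1 (Matrix.replicateRow Unit (exists_row A).choose) 0 A.1 := rfl

/-- `PGO_{2m+1} ≅ Sp_{2m}`. -/
theorem nonempty_sp_pgo :
    Nonempty (↥(Matrix.symplecticGroup (Fin m) K) ≃* Cfsg.PGO K (Cfsg.quadFormOdd m K)) := by
  refine nonempty_equiv_projQuot _ spOddHom (fun A => ⟨1, fun v => ?_⟩) ?_ ?_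
  · rw [Units.val_one, one_mul, spOddHom_val]
    exact (odd_preserve_iff _ _).2 (exists_row A).choose_spec v
  · intro A u h
    have h1 := congrArg Units.val h
    rw [spOddHom_val] at h1
    have hu : (1 : K) = u := by
      have := congrFun (congrFun h1 (Sum.inl ())) (Sum.inl ())
      simpa using this
    refine Subtype.ext (Matrix.ext fun i j => ?_)
    have := congrFun (congrFun h1 (Sum.inr i)) (Sum.inr j)
    rw [Matrix.fromBlocks_apply₂₂] at this
    rw [this, OneMemClass.coe_one]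
    by_cases hij : i = j <;> simp [hij, ← hu, Matrix.one_apply]
  · rintro h ⟨c, hc⟩
    obtain ⟨u, g, hgu, hu, hg⟩ := exists_scalar_mul (c := c) h
    have hiso : ∀ v, Cfsg.quadFormOdd m K (g.1 *ᵥ v) = Cfsg.quadFormOdd m K v := fun v => by
      have h1 := hc v
      rw [hg, odd_eq, show ((u : K) • g.1 *ᵥ v) ∘ Sum.inr = (u : K) • ((g.1 *ᵥ v) ∘ Sum.inr) from rfl] at h1
      simp only [Cfsg.quadFormPlus, Pi.smul_apply, smul_eq_mul, Function.comp_apply] at h1
      have e : (c : K) * Cfsg.quadFormOdd m K (g.1 *ᵥ v) = (c : K) * Cfsg.quadFormOdd m K v := by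
        rw [← h1, odd_eq, Cfsg.quadFormPlus, mul_add, Finset.mul_sum, ← hu]
        simp only [Function.comp_apply]
        congr 1
        · ring
        · exact Finset.sum_congr rfl fun i _ => by ring
      exact mul_left_cancel₀ c.ne_zero e
    have hpolar : ∀ x y, Cfsg.sympForm m K ((g.1 *ᵥ x) ∘ Sum.inr) ((g.1 *ᵥ y) ∘ Sum.inr) =
        Cfsg.sympForm m K (x ∘ Sum.inr) (y ∘ Sum.inr) := fun x y => by
      have h1 := hiso (x + y)
      rw [Matrix.mulVec_add, odd_add, odd_add, hiso, hiso] at h1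
      exact add_left_cancel h1
    obtain ⟨o, ho⟩ : ∃ o : W, o = Pi.single (Sum.inl ()) 1 := ⟨_, rfl⟩
    have hor : o ∘ Sum.inr = (0 : V) := by funext i; simp [ho]
    have hgo : (g.1 *ᵥ o) ∘ Sum.inr = (0 : V) := sympForm_sep _ fun z => by
      obtain ⟨x, hx⟩ : ∃ x, g.1 *ᵥ x = Sum.elim (0 : Unit → K) z :=
        ⟨(g⁻¹ : GL _ K).1 *ᵥ Sum.elim (0 : Unit → K) z, by rw [Matrix.mulVec_mulVec, g.mul_inv, Matrix.one_mulVec]⟩
      have h1 := hpolar o x
      rw [hx, hor, Sum.elim_comp_inr] at h1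
      rw [h1, sympForm_eq_bil, bil, zero_dotProduct]
    have h00 : g.1 (Sum.inl ()) (Sum.inl ()) = 1 := by
      have h1 := hiso o
      rw [odd_eq, odd_eq, hgo, hor, add_left_inj, ho, Matrix.mulVec_single_one, Pi.single_eq_same,
        mul_one] at h1
      exact sq_inj' (h1.trans (mul_one _).symm)
    have hblk : g.1 = fromBlocks 1 (Matrix.replicateRow Unit fun j => g.1 (Sum.inl ()) (Sum.inr j)) 0
        g.1.toBlocks₂₂ := by
      ext i j
      rcases i with i | i <;> rcases j with j | j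
      · simpa using h00
      · simp [Matrix.replicateRow]
      · simpa [ho] using congrFun hgo i
      · simp [Matrix.toBlocks₂₂]
    have hS : g.1.toBlocks₂₂ ∈ Matrix.symplecticGroup (Fin m) K := mem_symplecticGroup_iff_form.2 fun x y => by
      have h1 := hpolar (Sum.elim (0 : Unit → K) x) (Sum.elim (0 : Unit → K) y)
      rw [hblk, blocks_mulVec, blocks_mulVec, Sum.elim_comp_inr, Sum.elim_comp_inr, Sum.elim_comp_inr,
        Sum.elim_comp_inr] at h1
      exact h1
    refine ⟨⟨_, hS⟩, u, hgu.trans (congrArg (· * _) (Units.ext ?_))⟩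
    rw [spOddHom_val]
    refine hblk.trans ?_
    congr 2
    refine row_unique fun w => ?_
    rw [(exists_row ⟨_, hS⟩).choose_spec w]
    exact (odd_preserve_iff _ _).1 (fun v => by rw [← hblk]; exact hiso v) w

/-- `Sp` as the isometry group of `oddTwo`. -/
noncomputable def spOddTwoHom : ↥(Matrix.symplecticGroup (Fin m) K) →* GL (Unit ⊕ (Fin m ⊕ Fin m)) K :=
  MonoidHom.toHomUnits
    { toFun := fun A => fromBlocks 1 0 0 A.1
      map_one' := by rw [OneMemClass.coe_one, Matrix.fromBlocks_one]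
      map_mul' := fun A B => by rw [Matrix.fromBlocks_multiply]; simp }

theorem spOddTwoHom_val (A : ↥(Matrix.symplecticGroup (Fin m) K)) :
    (spOddTwoHom A).1 = fromBlocks 1 0 0 A.1 := rfl

/-- The projective similarity group of `oddTwo` is `Sp_{2m}`. -/
theorem nonempty_sp_oddTwo :
    Nonempty (↥(Matrix.symplecticGroup (Fin m) K) ≃* Cfsg.projQuot (sim (oddTwo K m))) := by
  refine nonempty_equiv_projQuot _ spOddTwoHom (fun A => ⟨1, fun x y => ?_⟩) ?_ ?_
  · rw [Units.val_one, one_mul, spOddTwoHom_val, bil_oddTwo, bil_oddTwo, Matrix.fromBlocks_mulVec,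
      Matrix.fromBlocks_mulVec]
    simp [sympForm_map]
  · intro A u h
    have h1 := congrArg Units.val h
    rw [spOddTwoHom_val] at h1
    have hu : (1 : K) = u := by
      have := congrFun (congrFun h1 (Sum.inl ())) (Sum.inl ())
      simpa using this
    refine Subtype.ext (Matrix.ext fun i j => ?_)
    have := congrFun (congrFun h1 (Sum.inr i)) (Sum.inr j)
    rw [Matrix.fromBlocks_apply₂₂] at this
    rw [this, OneMemClass.coe_one]
    by_cases hij : i = j <;> simp [hij, ← hu, Matrix.one_apply]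
  · rintro h ⟨c, hc⟩
    obtain ⟨u, g, hgu, hu, hg⟩ := exists_scalar_mul (c := c) h
    have hiso : ∀ x y, bil (oddTwo K m) (g.1 *ᵥ x) (g.1 *ᵥ y) = bil (oddTwo K m) x y := fun x y => by
      have h1 := hc x y
      simp only [hg, bil, Matrix.mulVec_smul, smul_dotProduct, dotProduct_smul, smul_eq_mul, ← mul_assoc, hu] at h1
      exact mul_left_cancel₀ c.ne_zero h1
    have h0 : ∀ x, (g.1 *ᵥ x) (Sum.inl ()) = x (Sum.inl ()) := fun x => by
      have h1 := hiso x x
      rw [bil_oddTwo, bil_oddTwo, sympForm_self, sympForm_self, add_zero, add_zero] at h1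
      exact sq_inj' h1
    have hsymp : ∀ x y, Cfsg.sympForm m K ((g.1 *ᵥ x) ∘ Sum.inr) ((g.1 *ᵥ y) ∘ Sum.inr) =
        Cfsg.sympForm m K (x ∘ Sum.inr) (y ∘ Sum.inr) := fun x y => by
      have h1 := hiso x y
      rw [bil_oddTwo, bil_oddTwo, h0, h0] at h1
      exact add_left_cancel h1
    have hgo : (g.1 *ᵥ Pi.single (Sum.inl ()) 1) ∘ Sum.inr = (0 : V) := sympForm_sep _ fun z => by
      obtain ⟨x, hx⟩ : ∃ x, g.1 *ᵥ x = Sum.elim (0 : Unit → K) z :=
        ⟨(g⁻¹ : GL _ K).1 *ᵥ Sum.elim (0 : Unit → K) z, by rw [Matrix.mulVec_mulVec, g.mul_inv, Matrix.one_mulVec]⟩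
      have h1 := hsymp (Pi.single (Sum.inl ()) 1) x
      rw [hx, Sum.elim_comp_inr] at h1
      rw [h1, show (Pi.single (Sum.inl ()) 1 : W) ∘ Sum.inr = (0 : V) by funext i; simp,
        sympForm_eq_bil, bil, zero_dotProduct]
    have hblk : g.1 = fromBlocks 1 0 0 g.1.toBlocks₂₂ := by
      ext i j
      rcases i with i | i <;> rcases j with j | j
      · simpa using h0 (Pi.single (Sum.inl ()) 1)
      · simpa using h0 (Pi.single (Sum.inr j) 1)
      · simpa using congrFun hgo i
      · simp [Matrix.toBlocks₂₂]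
    have hS : g.1.toBlocks₂₂ ∈ Matrix.symplecticGroup (Fin m) K := mem_symplecticGroup_iff_form.2 fun x y => by
      have h1 := hsymp (Sum.elim (0 : Unit → K) x) (Sum.elim (0 : Unit → K) y)
      rw [hblk, Matrix.fromBlocks_mulVec, Matrix.fromBlocks_mulVec] at h1
      simpa using h1
    exact ⟨⟨_, hS⟩, u, hgu.trans (congrArg (· * _) (Units.ext hblk))⟩

end CfsgLib.GraphClass
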